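import Mathlib
import Cfsg.Agent.Lib.Star.Hattori
import Cfsg.Agent.Lib.Blocks.Weak

/-!
# Coefficients of elements of the group algebra from character values

The regular character formula, the vanishing of an element all of whose character values on multiples
vanish, and the effect of a rank one idempotent.
-/

set_option autoImplicit false
set_option linter.unusedSectionVars false
set_option linter.style.haveILetI false

namespace Cfsg.Agent.Lib.BK.Coef

open Cfsg MonoidAlgebra
open Cfsg.Agent.Lib.Blocks.Local Cfsg.Agent.Lib.Blocks.Central Cfsg.Agent.Lib.Blocks.Brauer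
open Cfsg.Agent.Lib.Char.Basic Cfsg.Agent.Lib.Char.Complete Cfsg.Agent.Lib.Char.Ortho
open scoped ComplexConjugate

universe u

variable {G : Type u} [Group G] [Fintype G]

section Reg

variable [Fintype (IrrCharacter G)]

/-- The regular character. -/
theorem sum_irr_one_mul (g : G) [Decidable (g = 1)] :
    ∑ χ : IrrCharacter G, (χ : G → ℂ) 1 * (χ : G → ℂ) g = if g = 1 then (Nat.card G : ℂ) else 0 := by
  classical
  have h := Cfsg.Agent.Lib.Char.Complete.sum_irr_mul_conj (G := G) g 1
  have e : ∀ χ : IrrCharacter G, (χ : G → ℂ) 1 * (χ : G → ℂ) g =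
      (χ : G → ℂ) g * conj ((χ : G → ℂ) 1) := by
    intro χ
    obtain ⟨n, hn⟩ := exists_deg_of_isCharacter (isCharacter_of_isIrrCharacter χ.2)
    rw [hn, map_natCast, mul_comm]
  simp_rw [e]
  rw [h]
  by_cases hg : g = 1
  · subst hg
    rw [if_pos (IsConj.refl _), if_pos rfl]
    have h2 : Nat.card (Subgroup.centralizer ({1} : Set G)) = Nat.card G := by
      rw [Subgroup.centralizer_eq_top_iff_subset.mpr
        (Set.singleton_subset_iff.mpr (one_mem (Subgroup.center G)))]
      exact Nat.card_congr Subgroup.topEquiv.toEquiv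
    rw [h2]
  · rw [if_neg (by
      intro h3
      exact hg (isConj_one_right.mp h3.symm)), if_neg hg]

/-- The coefficient at `1`. -/
theorem card_mul_coeff_one (x : GA G) :
    (Nat.card G : ℂ) * x.coeff 1 = ∑ χ : IrrCharacter G, (χ : G → ℂ) 1 * lin (χ : G → ℂ) x := by
  classical
  simp only [lin_apply, Finset.mul_sum]
  rw [Finset.sum_comm]
  have e : ∀ g : G, ∑ χ : IrrCharacter G, (χ : G → ℂ) 1 * (x.coeff g * (χ : G → ℂ) g) =
      x.coeff g * (if g = 1 then (Nat.card G : ℂ) else 0) := by
    intro g
    rw [← sum_irr_one_mul g, Finset.mul_sum]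
    refine Finset.sum_congr rfl fun χ _ => ?_
    ring
  rw [Finset.sum_congr rfl fun g _ => e g, Finset.sum_eq_single 1]
  · rw [if_pos rfl, mul_comm]
  · intro g _ hg
    rw [if_neg hg, mul_zero]
  · intro h
    exact absurd (Finset.mem_univ _) h

theorem coeff_mul_single_inv (x : GA G) (g : G) : (x * single g⁻¹ 1).coeff 1 = x.coeff g := by
  rw [Cfsg.Agent.Lib.BP.Cj.coeff_mul_single']
  simp

/-- The coefficient at `g`. -/
theorem card_mul_coeff (x : GA G) (g : G) :
    (Nat.card G : ℂ) * x.coeff g =
      ∑ χ : IrrCharacter G, (χ : G → ℂ) 1 * lin (χ : G → ℂ) (x * single g⁻¹ 1) := by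
  rw [← card_mul_coeff_one, coeff_mul_single_inv]

/-- An element all of whose multiples have vanishing irreducible character values vanishes. -/
theorem eq_zero_of_lin (c : GA G)
    (h : ∀ (χ : IrrCharacter G) (x : GA G), lin (χ : G → ℂ) (c * x) = 0) : c = 0 := by
  ext g
  have h1 := card_mul_coeff c g
  rw [Finset.sum_eq_zero fun χ _ => by rw [h χ, mul_zero]] at h1
  have hcard : (Nat.card G : ℂ) ≠ 0 := Nat.cast_ne_zero.mpr Nat.card_pos.ne'
  exact (mul_eq_zero.mp h1).resolve_left hcard

/-- The central idempotent acts as an indicator. -/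
theorem lin_idem_mul (A : Set (IrrCharacter G)) [DecidablePred (· ∈ A)] (χ : IrrCharacter G) (x : GA G) :
    lin (χ : G → ℂ) (((idem A : Subalgebra.center ℂ (GA G)) : GA G) * x) =
      if χ ∈ A then lin (χ : G → ℂ) x else 0 := by
  rw [lin_central_mul χ.2 (isCentral_of_mem (idem A))]
  have := omegaHom_idem A χ
  rw [omegaHom] at this
  change omega (χ : G → ℂ) ((idem A : Subalgebra.center ℂ (GA G)) : GA G) = _ at this
  rw [this]
  split_ifs <;> simp

end Reg

/-- The `χ`-value of a central element, in terms of `omegaHom`. -/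
theorem lin_central_eq (χ : IrrCharacter G) (z : Subalgebra.center ℂ (GA G)) (y : GA G) :
    lin (χ : G → ℂ) ((z : GA G) * y) = omegaHom χ z * lin (χ : G → ℂ) y :=
  lin_central_mul χ.2 (isCentral_of_mem z) y

/-! ### Rank one -/

section Rank

variable {V : Type*} [AddCommGroup V] [Module ℂ V] [FiniteDimensional ℂ V]

/-- In a rank one projection `P`, a corner element is a scalar multiple of `P`. -/
theorem corner_eq_smul (P T : Module.End ℂ V) (hP : P * P = P) (h1 : LinearMap.trace ℂ V P = 1)
    (hT : P * T * P = T) : T = LinearMap.trace ℂ V T • P := by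
  have hidem : IsIdempotentElem P := hP
  have hp := LinearMap.IsIdempotentElem.isProj_range P hidem
  have h2 := hp.trace
  rw [h1] at h2
  have hrank : Module.finrank ℂ (LinearMap.range P) = 1 := by
    have : ((Module.finrank ℂ (LinearMap.range P) : ℕ) : ℂ) = 1 := by
      exact_mod_cast h2.symm
    exact_mod_cast this
  obtain ⟨v, hv0, hv⟩ := finrank_eq_one_iff'.mp hrank
  -- `T` acts on `v` by a scalar
  have hPv : ∀ w ∈ LinearMap.range P, P w = w := fun w hw => hp.map_id w hw
  have hTv : T (v : V) ∈ LinearMap.range P := by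
    rw [← hT]
    exact ⟨(T * P) v, rfl⟩
  obtain ⟨c, hc⟩ := hv ⟨T v, hTv⟩
  have hc' : T (v : V) = c • (v : V) := (congrArg Subtype.val hc).symm
  have hTP : T = c • P := by
    refine LinearMap.ext fun w => ?_
    obtain ⟨μ, hμ⟩ := hv ⟨P w, ⟨w, rfl⟩⟩
    have hμ' : P w = μ • (v : V) := (congrArg Subtype.val hμ).symm
    calc T w = (P * T * P) w := by rw [hT]
      _ = P (T (P w)) := rfl
      _ = P (T (μ • (v : V))) := by rw [hμ']
      _ = P (μ • c • (v : V)) := by rw [map_smul, hc']
      _ = μ • c • (v : V) := by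
          rw [map_smul, map_smul, hPv _ v.2]
      _ = c • P w := by rw [hμ', smul_comm]
  rw [hTP, map_smul, h1, smul_eq_mul, mul_one]

end Rank

/-- **A character with value `1` at an idempotent.** -/
theorem lin_mul_corner {χ : G → ℂ} (hχ : IsCharacter G χ) {i a : GA G} (hii : i * i = i)
    (h1 : lin χ i = 1) (ha : i * a * i = a) (x : GA G) :
    lin χ (x * a) = lin χ a * lin χ (x * i) := by
  obtain ⟨n, ρ, rfl⟩ := hχ
  set π : GA G →ₐ[ℂ] Module.End ℂ (Fin n → ℂ) := ρ.asAlgebraHom with hπ
  have hP : π i * π i = π i := by rw [← map_mul, hii]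
  have h2 : LinearMap.trace ℂ _ (π i) = 1 := by
    rw [hπ, trace_asAlgebraHom]
    exact h1
  have hT : π i * π a * π i = π a := by rw [← map_mul, ← map_mul, ha]
  have h3 := corner_eq_smul (π i) (π a) hP h2 hT
  simp only [← trace_asAlgebraHom]
  rw [← hπ, map_mul π x a, map_mul π x i]
  conv_lhs => rw [h3]
  rw [mul_smul_comm, map_smul, smul_eq_mul]

end Cfsg.Agent.Lib.BK.Coef
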