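import Mathlib
import Cfsg.Agent.Lib.BK.Coef

/-!
# A block whose algebra is a matrix algebra over a corner with character values one

Let `i` be an idempotent below `e = idem B` with `χ(i) = 1` for all `χ ∈ B`, and let `u_j, v_j` be local
elements with `v_j u_j = i`, `∑ u_j v_j = e`.  Then `i ℂG i` is commutative, and for every `y` there is a
central element `Z y` below `e`, with local coefficients if `y` is local, such that `ω_χ(Z y) = χ(y)`
for all `χ ∈ B`.
-/

set_option autoImplicit false
set_option linter.unusedSectionVars false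
set_option linter.style.haveILetI false

namespace Cfsg.Agent.Lib.BK.HC

open Cfsg MonoidAlgebra
open Cfsg.Agent.Lib.Blocks.Local Cfsg.Agent.Lib.Blocks.Central Cfsg.Agent.Lib.Blocks.Brauer
open Cfsg.Agent.Lib.Char.Basic Cfsg.Agent.Lib.Char.Complete Cfsg.Agent.Lib.BK.Coef

universe u v

variable {G : Type u} [Group G] [Fintype G] [Fintype (IrrCharacter G)] {M : Ideal AlgInt}

/-- The data. -/
structure HCData (M : Ideal AlgInt) (B : Set (IrrCharacter G)) (i : GA G) {J : Type v} (s : Finset J)
    (u w : J → GA G) : Prop where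
  ii : i * i = i
  lin_one : ∀ χ ∈ B, lin (χ : G → ℂ) i = 1
  mul_e : i * ((idem B : Subalgebra.center ℂ (GA G)) : GA G) = i
  rc_u : ∀ j ∈ s, Rc M (u j)
  rc_w : ∀ j ∈ s, Rc M (w j)
  wu : ∀ j ∈ s, w j * u j = i
  ui : ∀ j ∈ s, u j * i = u j
  iw : ∀ j ∈ s, i * w j = w j
  sum : ∑ j ∈ s, u j * w j = ((idem B : Subalgebra.center ℂ (GA G)) : GA G)

variable {B : Set (IrrCharacter G)} {i : GA G} {J : Type v} {s : Finset J} {u w : J → GA G}

theorem central_comm (z : Subalgebra.center ℂ (GA G)) (x : GA G) : x * (z : GA G) = (z : GA G) * x :=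
  (isCentral_iff_comm _).mp (isCentral_of_mem z) x

section

variable (h : HCData M B i s u w)
include h

theorem e_mul_i : ((idem B : Subalgebra.center ℂ (GA G)) : GA G) * i = i := by
  rw [← central_comm, h.mul_e]

theorem corner_mul_i {a : GA G} (ha : i * a * i = a) : a * i = a := by
  rw [← ha, mul_assoc, h.ii]

theorem i_mul_corner {a : GA G} (ha : i * a * i = a) : i * a = a := by
  rw [← ha, ← mul_assoc, ← mul_assoc, h.ii]

theorem e_mul_corner {a : GA G} (ha : i * a * i = a) : ((idem B : Subalgebra.center ℂ (GA G)) : GA G) * a = a := by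
  rw [← ha, ← mul_assoc, ← mul_assoc, e_mul_i h]

omit h in
theorem lin_swap (χ : IrrCharacter G) (a b : GA G) : lin (χ : G → ℂ) (a * b) = lin (χ : G → ℂ) (b * a) :=
  lin_mul_comm (isClassFunction_of_isIrrCharacter χ.2) a b

/-- The degree of the members of the block. -/
theorem one_eq_card {χ : IrrCharacter G} (hχ : χ ∈ B) : (χ : G → ℂ) 1 = (s.card : ℂ) := by
  classical
  have h1 : lin (χ : G → ℂ) ((idem B : Subalgebra.center ℂ (GA G)) : GA G) = (χ : G → ℂ) 1 := by
    have := lin_idem_mul B χ (1 : GA G)
    rw [mul_one, if_pos hχ, lin_one] at this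
    exact this
  rw [← h1, ← h.sum, map_sum, Finset.sum_congr rfl fun j hj => by
    rw [lin_swap χ (u j) (w j), h.wu j hj, h.lin_one χ hχ]]
  simp

/-- **The corner is commutative.** -/
theorem corner_comm {a b : GA G} (ha : i * a * i = a) (hb : i * b * i = b) : a * b = b * a := by
  classical
  rw [← sub_eq_zero]
  apply eq_zero_of_lin
  intro χ x
  by_cases hχ : χ ∈ B
  · have hc := isCharacter_of_isIrrCharacter χ.2
    have h1 : ∀ c d : GA G, i * c * i = c → i * d * i = d →
        lin (χ : G → ℂ) (x * (c * d)) = lin (χ : G → ℂ) d * (lin (χ : G → ℂ) c * lin (χ : G → ℂ) (x * i)) := by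
      intro c d hc' hd'
      rw [← mul_assoc, lin_mul_corner hc h.ii (h.lin_one χ hχ) hd' (x * c), mul_assoc x c i,
        corner_mul_i h hc', lin_mul_corner hc h.ii (h.lin_one χ hχ) hc' x]
    rw [lin_swap χ, mul_sub, map_sub, h1 a b ha hb, h1 b a hb ha]
    ring
  · have h1 : ((idem B : Subalgebra.center ℂ (GA G)) : GA G) * ((a * b - b * a) * x) = (a * b - b * a) * x := by
      rw [← mul_assoc, mul_sub, ← mul_assoc, ← mul_assoc, e_mul_corner h ha, e_mul_corner h hb]
    rw [← h1, lin_idem_mul, if_neg hχ]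

/-! ### The central elements -/

omit h in
/-- The map from the corner to the center. -/
noncomputable def psi (s : Finset J) (u w : J → GA G) (A : GA G) : GA G := ∑ j ∈ s, u j * A * w j

omit h in
/-- The map to the corner. -/
noncomputable def cor (s : Finset J) (u w : J → GA G) (y : GA G) : GA G := ∑ k ∈ s, w k * y * u k

theorem cor_corner (y : GA G) : i * cor s u w y * i = cor s u w y := by
  rw [cor, Finset.mul_sum, Finset.sum_mul]
  refine Finset.sum_congr rfl fun k hk => ?_
  calc i * (w k * y * u k) * i = (i * w k) * y * (u k * i) := by noncomm_ring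
    _ = _ := by rw [h.iw k hk, h.ui k hk]

theorem u_mul_e {j : J} (hj : j ∈ s) : u j * ((idem B : Subalgebra.center ℂ (GA G)) : GA G) = u j := by
  calc u j * ((idem B : Subalgebra.center ℂ (GA G)) : GA G) =
      (u j * i) * ((idem B : Subalgebra.center ℂ (GA G)) : GA G) := by rw [h.ui j hj]
    _ = u j * (i * ((idem B : Subalgebra.center ℂ (GA G)) : GA G)) := by noncomm_ring
    _ = u j := by rw [h.mul_e, h.ui j hj]

theorem w_mul_e {j : J} (hj : j ∈ s) : w j * ((idem B : Subalgebra.center ℂ (GA G)) : GA G) = w j := by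
  rw [central_comm]
  calc ((idem B : Subalgebra.center ℂ (GA G)) : GA G) * w j =
      ((idem B : Subalgebra.center ℂ (GA G)) : GA G) * (i * w j) := by rw [h.iw j hj]
    _ = (((idem B : Subalgebra.center ℂ (GA G)) : GA G) * i) * w j := by noncomm_ring
    _ = w j := by rw [e_mul_i h, h.iw j hj]

theorem psi_mul_e (A : GA G) : psi s u w A * ((idem B : Subalgebra.center ℂ (GA G)) : GA G) = psi s u w A := by
  rw [psi, Finset.sum_mul]
  refine Finset.sum_congr rfl fun j hj => ?_
  rw [mul_assoc, w_mul_e h hj]

/-- The image of a corner element is central. -/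
theorem psi_central {A : GA G} (hA : i * A * i = A) (x : GA G) : x * psi s u w A = psi s u w A * x := by
  have he : ((idem B : Subalgebra.center ℂ (GA G)) : GA G) * psi s u w A = psi s u w A := by
    rw [← central_comm, psi_mul_e h]
  have h1 : x * psi s u w A = ∑ k ∈ s, ∑ j ∈ s, u k * (w k * x * u j) * A * w j := by
    calc x * psi s u w A = x * (((idem B : Subalgebra.center ℂ (GA G)) : GA G) * psi s u w A) := by rw [he]
      _ = ((idem B : Subalgebra.center ℂ (GA G)) : GA G) * (x * psi s u w A) := by
          rw [← mul_assoc, central_comm, mul_assoc]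
      _ = _ := by
          rw [← h.sum, Finset.sum_mul]
          refine Finset.sum_congr rfl fun k _ => ?_
          rw [psi, Finset.mul_sum, Finset.mul_sum]
          refine Finset.sum_congr rfl fun j _ => ?_
          noncomm_ring
  have h2 : psi s u w A * x = ∑ k ∈ s, ∑ j ∈ s, u k * A * (w k * x * u j) * w j := by
    calc psi s u w A * x = psi s u w A * x * ((idem B : Subalgebra.center ℂ (GA G)) : GA G) := by
          rw [mul_assoc, central_comm, ← mul_assoc, psi_mul_e h]
      _ = _ := by
          rw [← h.sum, psi, Finset.sum_mul, Finset.sum_mul]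
          refine Finset.sum_congr rfl fun k _ => ?_
          rw [Finset.mul_sum]
          refine Finset.sum_congr rfl fun j _ => ?_
          noncomm_ring
  rw [h1, h2]
  refine Finset.sum_congr rfl fun k hk => Finset.sum_congr rfl fun j hj => ?_
  have h3 : i * (w k * x * u j) * i = w k * x * u j := by
    calc i * (w k * x * u j) * i = (i * w k) * x * (u j * i) := by noncomm_ring
      _ = _ := by rw [h.iw k hk, h.ui j hj]
  have h4 := corner_comm h h3 hA
  calc u k * (w k * x * u j) * A * w j = u k * ((w k * x * u j) * A) * w j := by noncomm_ring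
    _ = u k * (A * (w k * x * u j)) * w j := by rw [h4]
    _ = _ := by noncomm_ring

/-- The central element attached to `y`. -/
noncomputable def zh (h : HCData M B i s u w) (y : GA G) : Subalgebra.center ℂ (GA G) :=
  ⟨psi s u w (cor s u w y), by
    rw [Subalgebra.mem_center_iff]
    intro x
    exact psi_central h (cor_corner h y) x⟩

theorem coe_zh (y : GA G) : (zh h y : GA G) = psi s u w (cor s u w y) := rfl

theorem zh_mul_e (y : GA G) : zh h y * idem B = zh h y := by
  apply Subtype.ext
  exact psi_mul_e h _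

theorem zh_mem [M.IsPrime] {y : GA G} (hy : Rc M y) : zh h y ∈ localCenter M G := by
  change Rc M (psi s u w (cor s u w y))
  have h1 : Rc M (cor s u w y) := Rc.sum _ _ fun k hk => ((h.rc_w k hk).mul hy).mul (h.rc_u k hk)
  exact Rc.sum _ _ fun j hj => ((h.rc_u j hj).mul h1).mul (h.rc_w j hj)

/-- The central character of `zh y`. -/
theorem omegaHom_zh {χ : IrrCharacter G} (hχ : χ ∈ B) (y : GA G) : omegaHom χ (zh h y) = lin (χ : G → ℂ) y := by
  classical
  have h0 := irr_one_ne_zero χ.2
  rw [omegaHom_apply, div_eq_iff h0, coe_zh, psi, map_sum]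
  have h1 : ∀ j ∈ s, lin (χ : G → ℂ) (u j * cor s u w y * w j) = lin (χ : G → ℂ) (cor s u w y) := by
    intro j hj
    have h2 : w j * u j * cor s u w y = cor s u w y := by
      rw [h.wu j hj, i_mul_corner h (cor_corner h y)]
    rw [lin_swap χ, ← mul_assoc, h2]
  rw [Finset.sum_congr rfl h1, Finset.sum_const, nsmul_eq_mul, ← one_eq_card h hχ, mul_comm]
  congr 1
  rw [cor, map_sum]
  have h3 : ∀ k ∈ s, lin (χ : G → ℂ) (w k * y * u k) = lin (χ : G → ℂ) ((u k * w k) * y) := by
    intro k _
    rw [lin_swap χ, ← mul_assoc, lin_swap χ (u k * w k) y]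
  rw [Finset.sum_congr rfl h3, ← map_sum, ← Finset.sum_mul, h.sum, lin_idem_mul, if_pos hχ]

end

/-- **The central elements.** -/
theorem exists_central (h : HCData M B i s u w) [M.IsPrime] :
    ∃ Z : GA G → Subalgebra.center ℂ (GA G), (∀ y, Rc M y → Z y ∈ localCenter M G) ∧
      (∀ y, Z y * idem B = Z y) ∧ ∀ χ ∈ B, ∀ y, omegaHom χ (Z y) = lin (χ : G → ℂ) y :=
  ⟨zh h, fun _ hy => zh_mem h hy, zh_mul_e h, fun _ hχ y => omegaHom_zh h hχ y⟩

end Cfsg.Agent.Lib.BK.HC
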