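import Mathlib
import Cfsg.Agent.Lib.BK.HC
import Cfsg.Agent.Lib.BlockH.Nilpotent

/-!
# Injectivity of the Brauer map on the center of the block

Let `B` be a block, all of whose members have the same degree `D`, with a defect class `g₀`, such that for
every `y` there is a central `Z y` below `e = idem B` with `ω_χ(Z y) = χ(y)` on `B`.  If `z` is a local central
element below `e` whose truncation to `C_G(P)` vanishes modulo the local ideal, then `z` vanishes modulo the local
ideal.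
-/

set_option autoImplicit false
set_option linter.unusedSectionVars false
set_option linter.style.haveILetI false

namespace Cfsg.Agent.Lib.BK.Core1

open Cfsg MonoidAlgebra
open Cfsg.Agent.Lib.Blocks.Local Cfsg.Agent.Lib.Blocks.Central Cfsg.Agent.Lib.Blocks.Brauer
open Cfsg.Agent.Lib.Char.Basic Cfsg.Agent.Lib.Char.Complete Cfsg.Agent.Lib.BK.Coef
open Cfsg.Agent.Lib.BlockH.MaxPair Cfsg.Agent.Lib.BlockH.BrauerMap Cfsg.Agent.Lib.BlockH.Subpair
open Cfsg.Agent.Lib.BP.Cj Cfsg.Agent.Lib.Blocks.Induced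

universe u

variable {G : Type u} [Group G] [Fintype G] [Fintype (IrrCharacter G)] {M : Ideal AlgInt} {p : ℕ}
  {B : Set (IrrCharacter G)}

theorem omegaHom_zero_of_mul_e (W : Subalgebra.center ℂ (GA G)) (hW : W * idem B = W) {χ : IrrCharacter G}
    (hχ : χ ∉ B) : omegaHom χ W = 0 := by
  classical
  rw [← hW, map_mul, omegaHom_idem, if_neg hχ, mul_zero]

/-- The coefficients of a central element below `e`. -/
theorem card_mul_coeff_central {D : ℂ} (hD : ∀ χ ∈ B, (χ : G → ℂ) 1 = D) (W : Subalgebra.center ℂ (GA G))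
    (hW : W * idem B = W) (g : G) [DecidablePred (· ∈ B)] :
    (Nat.card G : ℂ) * (W : GA G).coeff g =
      D * ∑ χ : IrrCharacter G, if χ ∈ B then omegaHom χ W * (χ : G → ℂ) g⁻¹ else 0 := by
  rw [card_mul_coeff, Finset.mul_sum]
  refine Finset.sum_congr rfl fun χ _ => ?_
  rw [lin_central_eq, lin_single, one_mul]
  by_cases hχ : χ ∈ B
  · rw [if_pos hχ, hD χ hχ]
  · rw [if_neg hχ, omegaHom_zero_of_mul_e W hW hχ, zero_mul, mul_zero, mul_zero]

section Unit

variable [hMp : M.IsPrime]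

/-- A local central element that is a unit at `B`. -/
theorem jc_of_mul_unit (hB : IsPBlock M B) {w v : Subalgebra.center ℂ (GA G)} (hw : w ∈ localCenter M G)
    (hv : v ∈ localCenter M G) (hwe : w * idem B = w) {χ₀ : IrrCharacter G} (hχ₀ : χ₀ ∈ B)
    (hu : ¬ MemLocalIdeal M (omegaHom χ₀ v)) (hJ : Jc M ((w * v : Subalgebra.center ℂ (GA G)) : GA G)) :
    Jc M (w : GA G) := by
  classical
  set E := idem B with hE
  have hEl : E ∈ localCenter M G := idem_mem_localCenter hB
  have hEE : E * E = E := Cfsg.Agent.Lib.Blocks.Weak.idem_mul_self B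
  set c : ℂ := omegaHom χ₀ v with hc
  have hcl : MemLocalRing M c := omegaHom_mem_local χ₀ hv
  set cE : Subalgebra.center ℂ (GA G) := c • E with hcE
  have hcEl : cE ∈ localCenter M G := smul_mem_localCenter hcl hEl
  set A : Subalgebra.center ℂ (GA G) := v * E with hA
  have hAl : A ∈ localCenter M G := Subring.mul_mem _ hv hEl
  set y : Subalgebra.center ℂ (GA G) := A - cE with hy
  have hyl : y ∈ localCenter M G := Subring.sub_mem _ hAl hcEl
  have hyω : ∀ ψ : IrrCharacter G, MemLocalIdeal M (omegaHom ψ y) := by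
    intro ψ
    rw [hy, hA, hcE, map_sub, map_mul, map_smul, omegaHom_idem, smul_eq_mul]
    by_cases hψ : ψ ∈ B
    · rw [if_pos hψ, mul_one, mul_one]
      have hs : SameBlock M (ψ : G → ℂ) (χ₀ : G → ℂ) := by
        rw [isPBlock_eq_blockOf hB hχ₀] at hψ
        exact sameBlock_symm hψ
      exact omegaHom_sub_mem_of_sameBlock hs hv
    · rw [if_neg hψ, mul_zero, mul_zero, sub_zero]
      exact memLocalIdeal_zero
  obtain ⟨n, hn⟩ := exists_pow_Jc hyl hyω
  -- the identity in the commutative ring of local central elements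
  let L := localCenter M G
  let a' : L := ⟨cE, hcEl⟩
  let b' : L := ⟨-y, Subring.neg_mem _ hyl⟩
  obtain ⟨R, hR⟩ := sub_dvd_pow_sub_pow a' b' n
  have hR' : (cE ^ n : Subalgebra.center ℂ (GA G)) - (-y) ^ n = (A * R : Subalgebra.center ℂ (GA G)) := by
    have h7 : cE ^ n - (-y) ^ n = (cE - (-y)) * (R : Subalgebra.center ℂ (GA G)) := congrArg Subtype.val hR
    rw [h7, hy]
    congr 1
    abel
  have hwc : w * cE ^ n = c ^ n • w := by
    clear_value cE
    rw [hcE, smul_pow, mul_smul_comm]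
    congr 1
    induction n with
    | zero => simp
    | succ k _ => 
      have h1 : ∀ m : ℕ, E ^ (m + 1) = E := by
        intro m
        induction m with
        | zero => simp
        | succ m ih => rw [pow_succ, ih, hEE]
      rw [h1 k, hwe]
  have h2 : w * cE ^ n = (w * v) * (E * R) + w * (-y) ^ n := by
    have : cE ^ n = A * R + (-y) ^ n := by rw [← hR']; abel
    rw [this, mul_add, hA]
    ring
  have hJ1 : Jc M (((w * v) * (E * R) : Subalgebra.center ℂ (GA G)) : GA G) := by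
    rw [Subalgebra.coe_mul]
    exact Jc.mul_Rc hJ (Rc.of_localCenter (Subring.mul_mem _ hEl R.2))
  have hJ2 : Jc M ((w * (-y) ^ n : Subalgebra.center ℂ (GA G)) : GA G) := by
    rw [Subalgebra.coe_mul]
    refine Rc.mul_Jc (Rc.of_localCenter hw) ?_
    have h5 : (-y) ^ n = (-1 : Subalgebra.center ℂ (GA G)) ^ n * y ^ n := neg_pow y n
    rw [h5, Subalgebra.coe_mul]
    have h6 : ((-1 : Subalgebra.center ℂ (GA G)) ^ n) ∈ localCenter M G :=
      Subring.pow_mem _ (Subring.neg_mem _ (Subring.one_mem _)) n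
    rw [SubmonoidClass.coe_pow y n]
    exact Rc.mul_Jc (Rc.of_localCenter h6) hn
  have hJ3 : Jc M ((c ^ n • w : Subalgebra.center ℂ (GA G)) : GA G) := by
    rw [← hwc, h2, AddMemClass.coe_add]
    exact hJ1.add hJ2
  -- dividing by the unit
  have hun : MemLocalRing M (c ^ n) ∧ ¬ MemLocalIdeal M (c ^ n) := by
    refine ⟨memLocalRing_pow hcl n, fun h => hu ?_⟩
    exact memLocalIdeal_of_pow hcl h
  have hinv := memLocalRing_inv_of_notMem hun.1 hun.2
  have hne : c ^ n ≠ 0 := ne_zero_of_notMem hun.2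
  intro g
  have h3 := memLocalIdeal_mul_left hinv (hJ3 g)
  have h4 : ((c ^ n • w : Subalgebra.center ℂ (GA G)) : GA G).coeff g = c ^ n * (w : GA G).coeff g := rfl
  rw [h4, ← mul_assoc, inv_mul_cancel₀ hne, one_mul] at h3
  exact h3

end Unit

section Key

variable [hMp : M.IsPrime] {Z : GA G → Subalgebra.center ℂ (GA G)} {D : ℂ}

/-- The key identity. -/
theorem index_mul_coeff (hD0 : D ≠ 0) (hD : ∀ χ ∈ B, (χ : G → ℂ) 1 = D) (hZ2 : ∀ y, Z y * idem B = Z y)
    (hZ3 : ∀ χ ∈ B, ∀ y, omegaHom χ (Z y) = lin (χ : G → ℂ) y) (w : Subalgebra.center ℂ (GA G))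
    (hw : w * idem B = w) (g g₀ : G) :
    ((Subgroup.centralizer ({g₀} : Set G)).index : ℂ) *
        ((w * Z (single g⁻¹ 1) : Subalgebra.center ℂ (GA G)) : GA G).coeff g₀⁻¹ =
      D * ((w * classSum g₀ : Subalgebra.center ℂ (GA G)) : GA G).coeff g := by
  classical
  have hcard : (Nat.card G : ℂ) ≠ 0 := Nat.cast_ne_zero.mpr Nat.card_pos.ne'
  apply mul_left_cancel₀ hcard
  have hW : (w * Z (single g⁻¹ 1)) * idem B = w * Z (single g⁻¹ 1) := by rw [mul_assoc, hZ2]
  have hX : (w * classSum g₀) * idem B = w * classSum g₀ := by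
    rw [mul_comm w, mul_assoc, hw]
  have h1 := card_mul_coeff_central hD (w * Z (single g⁻¹ 1)) hW g₀⁻¹
  have h2 := card_mul_coeff_central hD (w * classSum g₀) hX g
  calc (Nat.card G : ℂ) * (((Subgroup.centralizer ({g₀} : Set G)).index : ℂ) *
        ((w * Z (single g⁻¹ 1) : Subalgebra.center ℂ (GA G)) : GA G).coeff g₀⁻¹)
      = ((Subgroup.centralizer ({g₀} : Set G)).index : ℂ) * ((Nat.card G : ℂ) *
        ((w * Z (single g⁻¹ 1) : Subalgebra.center ℂ (GA G)) : GA G).coeff g₀⁻¹) := by ring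
    _ = D * (D * ∑ χ : IrrCharacter G, if χ ∈ B then omegaHom χ (w * classSum g₀) * (χ : G → ℂ) g⁻¹ else 0) := by
        rw [h1, Finset.mul_sum, Finset.mul_sum, Finset.mul_sum, Finset.mul_sum]
        refine Finset.sum_congr rfl fun χ _ => ?_
        by_cases hχ : χ ∈ B
        · rw [if_pos hχ, if_pos hχ, map_mul, map_mul, hZ3 χ hχ, omegaHom_classSum, lin_single, one_mul,
            centralChar, hD χ hχ, inv_inv]
          field_simp
        · simp [if_neg hχ]
    _ = (Nat.card G : ℂ) * (D * ((w * classSum g₀ : Subalgebra.center ℂ (GA G)) : GA G).coeff g) := by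
        rw [← h2]
        ring

theorem classSum_local (g : G) : classSum g ∈ localCenter M G := classSum_mem_localCenter g

/-- **The first vanishing.** -/
theorem jc_of_coeff_mem (hM : IsPModular p M) (hB : IsPBlock M B) (hD0 : D ≠ 0) (hD : ∀ χ ∈ B, (χ : G → ℂ) 1 = D)
    (hZ1 : ∀ y, Rc M y → Z y ∈ localCenter M G) (hZ2 : ∀ y, Z y * idem B = Z y)
    (hZ3 : ∀ χ ∈ B, ∀ y, omegaHom χ (Z y) = lin (χ : G → ℂ) y) {P : Subgroup G} (hP : IsPGroup p P) {g₀ : G}
    (hg₀ : g₀ ∈ Subgroup.centralizer (P : Set G)) (hdc : IsDefectClass M B g₀)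
    (hκ : MemLocalRing M (((Subgroup.centralizer ({g₀} : Set G)).index : ℂ) / D))
    {w : Subalgebra.center ℂ (GA G)} (hw : w ∈ localCenter M G) (hwe : w * idem B = w)
    (hc : ∀ c ∈ Subgroup.centralizer (P : Set G), MemLocalIdeal M ((w : GA G).coeff c)) :
    Jc M ((w * classSum g₀ : Subalgebra.center ℂ (GA G)) : GA G) := by
  classical
  intro g
  have h1 := index_mul_coeff hD0 hD hZ2 hZ3 w hwe g g₀
  have hy : Rc M (single g⁻¹ 1 : GA G) := Rc.single _ memLocalRing_one
  have hZl := hZ1 _ hy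
  have h2 := res_mul_sub_mem hM hP (QInv.of_central (isCentral_of_mem w))
    (QInv.of_central (isCentral_of_mem (Z (single g⁻¹ 1)))) hw hZl
  have h3 : Jc M (res (Subgroup.centralizer (P : Set G) : Subgroup G) (w : GA G)) := by
    intro x
    by_cases hx : x ∈ Subgroup.centralizer (P : Set G)
    · rw [coeff_res_of_mem _ hx]
      exact hc x hx
    · rw [coeff_res_of_notMem _ hx]
      exact memLocalIdeal_zero
  have h4 := h3.mul_Rc (Rc.res ((Subgroup.centralizer (P : Set G) : Subgroup G) : Set G) (Rc.of_localCenter hZl))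
  have h5 := h2.add h4
  rw [sub_add_cancel] at h5
  have hg₀' : g₀⁻¹ ∈ Subgroup.centralizer (P : Set G) := Subgroup.inv_mem _ hg₀
  have h6 := h5 g₀⁻¹
  rw [coeff_res_of_mem _ hg₀'] at h6
  have h7 : ((w * classSum g₀ : Subalgebra.center ℂ (GA G)) : GA G).coeff g =
      (((Subgroup.centralizer ({g₀} : Set G)).index : ℂ) / D) *
        (((w : GA G) * (Z (single g⁻¹ 1) : GA G))).coeff g₀⁻¹ := by
    field_simp
    rw [mul_comm]
    exact h1.symm.trans (by rw [Subalgebra.coe_mul])
  rw [h7]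
  exact memLocalIdeal_mul_left hκ h6

/-- **The second vanishing.** -/
theorem jc_of_coeff_mem' (hM : IsPModular p M) (hB : IsPBlock M B) (hD0 : D ≠ 0) (hD : ∀ χ ∈ B, (χ : G → ℂ) 1 = D)
    (hZ1 : ∀ y, Rc M y → Z y ∈ localCenter M G) (hZ2 : ∀ y, Z y * idem B = Z y)
    (hZ3 : ∀ χ ∈ B, ∀ y, omegaHom χ (Z y) = lin (χ : G → ℂ) y) {P : Subgroup G} (hP : IsPGroup p P) {g₀ : G}
    (hg₀ : g₀ ∈ Subgroup.centralizer (P : Set G)) (hdc : IsDefectClass M B g₀)
    (hκ : MemLocalRing M (((Subgroup.centralizer ({g₀} : Set G)).index : ℂ) / D))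
    {w : Subalgebra.center ℂ (GA G)} (hw : w ∈ localCenter M G) (hwe : w * idem B = w)
    (hc : ∀ c ∈ Subgroup.centralizer (P : Set G), MemLocalIdeal M ((w : GA G).coeff c)) :
    Jc M (w : GA G) := by
  obtain ⟨χ₀, hχ₀⟩ := isPBlock_nonempty hB
  refine jc_of_mul_unit hB hw (classSum_local g₀) hwe hχ₀ ?_
    (jc_of_coeff_mem hM hB hD0 hD hZ1 hZ2 hZ3 hP hg₀ hdc hκ hw hwe hc)
  rw [omegaHom_classSum]
  exact hdc.2.2 χ₀ hχ₀

end Key

end Cfsg.Agent.Lib.BK.Core1
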