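import Mathlib
import Cfsg.Agent.Lib.BK.Core1

/-!
# Injectivity of the Brauer map at a maximal pair

If `z` is a local central element below `e = idem B` and the truncation of `z` to `C = C_G(P)`, multiplied with the
idempotent of the block `e₀` of `C`, vanishes modulo the local ideal (with `(P, e₀)` a maximal pair), then `z`
vanishes modulo the local ideal.
-/

set_option autoImplicit false
set_option linter.unusedSectionVars false
set_option linter.style.haveILetI false

namespace Cfsg.Agent.Lib.BK.Core2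

open Cfsg MonoidAlgebra
open Cfsg.Agent.Lib.Blocks.Local Cfsg.Agent.Lib.Blocks.Central Cfsg.Agent.Lib.Blocks.Brauer
open Cfsg.Agent.Lib.Char.Basic Cfsg.Agent.Lib.Char.Complete Cfsg.Agent.Lib.BK.Coef
open Cfsg.Agent.Lib.BlockH.MaxPair Cfsg.Agent.Lib.BlockH.BrauerMap Cfsg.Agent.Lib.BlockH.Subpair
open Cfsg.Agent.Lib.BlockH.Transport Cfsg.Agent.Lib.BlockH.ConjPair
open Cfsg.Agent.Lib.BP.Cj Cfsg.Agent.Lib.Blocks.Induced Cfsg.Agent.Lib.BK.Core1
open Cfsg.Agent.Lib.Blocks.Defect Cfsg.Agent.Lib.Blocks.Defect2 Cfsg.Agent.Lib.BlockH.Pairs Cfsg.Agent.Lib.BlockH.SubpairLE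

universe u

variable {G : Type u} [Group G] [Fintype G] {M : Ideal AlgInt} {p : ℕ} {B : Set (IrrCharacter G)}
  {P : Subgroup G} {e : Set (IrrCharacter (Subgroup.centralizer (P : Set G)))}

section

variable [Fact p.Prime] [Fintype (G ⧸ stabSub P e)]

/-- The coefficient of the trace of the idempotent at an element of the centralizer. -/
theorem relTr_sub_mem (hM : IsPModular p M) (hmax : IsMaximalBrauerPair p M B P e) {c : G}
    (hc : c ∈ Subgroup.centralizer (P : Set G)) [DecidablePred (fun q : G ⧸ stabSub P e =>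
      q.out ∈ Subgroup.normalizer (P : Set G))] :
    MemLocalIdeal M ((relTr (stabSub P e) (subgroupBlockCoeff (Subgroup.centralizer (P : Set G)) e)).coeff c -
      ∑ q ∈ Finset.univ.filter (fun q : G ⧸ stabSub P e => q.out ∈ Subgroup.normalizer (P : Set G)),
        subgroupBlockCoeff (Subgroup.centralizer (P : Set G)) e (q.out⁻¹ * c * q.out)) := by
  classical
  haveI := isPrime_of_pModular hM
  have he := hmax.1.1.2
  set β := subgroupBlockCoeff (Subgroup.centralizer (P : Set G)) e with hβdef
  have hβ : ∀ t ∈ stabSub P e, ∀ g, β (t * g * t⁻¹) = β g := fun t ht g => beta_conj hM he ht g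
  have hl : ∀ g, MemLocalRing M (β g) := beta_local hM he
  have hPT : P ≤ stabSub P e := P_le_stabSub (p := p) hmax.1.1 hM
  set S₁ := Finset.univ.filter (fun q : G ⧸ stabSub P e => q.out ∈ Subgroup.normalizer (P : Set G)) with hS₁
  let S : Finset (G ⧸ stabSub P e) := Finset.univ.filter fun q => ∀ u : P, (u : G) • q = q
  have hS : ∀ q, q ∈ S ↔ ∀ u : P, (u : G) • q = q := fun q => by simp [S]
  have hsub : S₁ ⊆ S := by
    intro q hq
    have hqN := (Finset.mem_filter.mp hq).2
    refine (hS q).mpr ((smul_eq_iff q).mpr fun u hu => hPT ?_)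
    have h1 : (q.out)⁻¹ ∈ Subgroup.normalizer (P : Set G) := Subgroup.inv_mem _ hqN
    have h2 := (Subgroup.mem_normalizer_iff.mp h1 u).mp hu
    simpa using h2
  have h2 := relTr_sub_fixed hM hmax.1.1.1 hβ hl hc S hS
  have h3 : MemLocalIdeal M (∑ q ∈ S \ S₁, β (q.out⁻¹ * c * q.out)) := by
    refine memLocalIdeal_sum _ _ fun q hq => ?_
    have hq' := Finset.mem_sdiff.mp hq
    have hqS := (hS q).mp hq'.1
    have hqN : q.out ∉ Subgroup.normalizer (P : Set G) := fun h =>
      hq'.2 (Finset.mem_filter.mpr ⟨Finset.mem_univ _, h⟩)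
    refine coeff_mem_of_fixed hM hmax hmax.1.1.1 ((smul_eq_iff q).mp hqS) hc ?_
    intro hle
    apply hqN
    have hcard : Nat.card (P.map (MulAut.conj (q.out)⁻¹).toMonoidHom) = Nat.card P :=
      Cfsg.Agent.Lib.BlockT.SylowIn.card_conj_eq P _
    have heq := Subgroup.eq_of_le_of_card_ge hle hcard.ge
    rw [Subgroup.mem_normalizer_iff]
    intro g
    constructor
    · intro hg
      have h5 : g ∈ P.map (MulAut.conj (q.out)⁻¹).toMonoidHom := by
        rw [heq]
        exact hg
      rw [mem_map_conj, inv_inv] at h5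
      exact h5
    · intro hg
      have h5 : g ∈ P.map (MulAut.conj (q.out)⁻¹).toMonoidHom := by
        rw [mem_map_conj, inv_inv]
        exact hg
      rwa [heq] at h5
  have h4 := memLocalIdeal_add h2 h3
  convert h4 using 1
  have h5 : ∑ q ∈ S, β (q.out⁻¹ * c * q.out) =
      ∑ q ∈ S₁, β (q.out⁻¹ * c * q.out) + ∑ q ∈ S \ S₁, β (q.out⁻¹ * c * q.out) := by
    rw [add_comm, Finset.sum_sdiff hsub]
  rw [h5]
  ring

end

section Main

variable [Fintype (IrrCharacter G)] [Fintype (Subgroup.centralizer (P : Set G))]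
  [Fintype (IrrCharacter (Subgroup.centralizer (P : Set G)))] [Fact p.Prime]
  {Z : GA G → Subalgebra.center ℂ (GA G)} {D : ℂ}

/-- **Injectivity of the Brauer map.** -/
theorem jc_of_res_mul (hM : IsPModular p M) (hmax : IsMaximalBrauerPair p M B P e) (hD0 : D ≠ 0)
    (hD : ∀ χ ∈ B, (χ : G → ℂ) 1 = D)
    [M.IsPrime] (hZ1 : ∀ y, Rc M y → Z y ∈ localCenter M G) (hZ2 : ∀ y, Z y * idem B = Z y)
    (hZ3 : ∀ χ ∈ B, ∀ y, omegaHom χ (Z y) = lin (χ : G → ℂ) y) {g₀ : G}
    (hg₀ : g₀ ∈ Subgroup.centralizer (P : Set G)) (hdc : IsDefectClass M B g₀)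
    (hκ : MemLocalRing M (((Subgroup.centralizer ({g₀} : Set G)).index : ℂ) / D))
    {z : Subalgebra.center ℂ (GA G)} (hz : z ∈ localCenter M G) (hze : z * idem B = z)
    (hJ : Jc M (res (Subgroup.centralizer (P : Set G) : Subgroup G) (z : GA G) *
      subIdem (Subgroup.centralizer (P : Set G)) e)) : Jc M (z : GA G) := by
  classical
  letI : Fintype (G ⧸ stabSub P e) := Fintype.ofFinite _
  have hB := hmax.1.2.1
  have he := hmax.1.1.2
  have hP := hmax.1.1.1
  obtain ⟨ξ, hξ⟩ := isPBlock_nonempty he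
  obtain ⟨χ, hχ⟩ := isPBlock_nonempty hB
  set β := subgroupBlockCoeff (Subgroup.centralizer (P : Set G)) e with hβdef
  have hβ : ∀ t ∈ stabSub P e, ∀ g, β (t * g * t⁻¹) = β g := fun t ht g => beta_conj hM he ht g
  have hl : ∀ g, MemLocalRing M (β g) := beta_local hM he
  let zc : Subalgebra.center ℂ (GA G) := ⟨relTr (stabSub P e) β, (mem_center_iff _).mpr (isCentral_relTr hβ)⟩
  have hzl : zc ∈ localCenter M G := rc_relTr hl
  -- the unit
  have hunit : ¬ MemLocalIdeal M (omegaHom χ zc) := by
    have h1 := brH_relTr_sub_one_mem hM hmax hξ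
    have hpair := hmax.1.2.2 ξ hξ
    rw [brauerOmega_blockCoeff] at hpair
    have h2 := brH_sub_omegaHom_of_pair hM hmax.1.1.1 hB hpair hχ hzl
    intro h
    have h4 := memLocalIdeal_add h2 h
    rw [sub_add_cancel] at h4
    have h5 := memLocalIdeal_sub h4 h1
    rw [show brH P ξ (zc : GA G) - (brH P ξ (relTr (stabSub P e)
      (subgroupBlockCoeff (Subgroup.centralizer (P : Set G)) e)) - 1) = 1 by
        change brH P ξ (relTr (stabSub P e)
          (subgroupBlockCoeff (Subgroup.centralizer (P : Set G)) e)) - _ = 1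
        ring] at h5
    exact one_notMemLocalIdeal h5
  -- the truncation of `zc`
  set X : GA G := res (Subgroup.centralizer (P : Set G) : Subgroup G) (z : GA G) with hX
  set S₁ := Finset.univ.filter (fun q : G ⧸ stabSub P e => q.out ∈ Subgroup.normalizer (P : Set G)) with hS₁
  set y : GA G := ∑ q ∈ S₁, cj q.out (subIdem (Subgroup.centralizer (P : Set G)) e) with hy
  have hres : Jc M (res (Subgroup.centralizer (P : Set G) : Subgroup G) (zc : GA G) - y) := by
    intro g
    rw [coeff_sub', hy, coeff_sum']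
    simp only [coeff_cj, coeff_subIdem]
    by_cases hg : g ∈ Subgroup.centralizer (P : Set G)
    · rw [coeff_res_of_mem _ hg]
      exact relTr_sub_mem hM hmax hg
    · rw [coeff_res_of_notMem _ hg, Finset.sum_eq_zero, sub_zero]
      · exact memLocalIdeal_zero
      · intro q hq
        have hqN := (Finset.mem_filter.mp hq).2
        have hqN' := mem_normalizer_centralizer hqN
        have h1 : ((q.out)⁻¹ * g * q.out) ∉ Subgroup.centralizer (P : Set G) := by
          intro h2
          apply hg
          have h3 := (Subgroup.mem_normalizer_iff.mp (Subgroup.inv_mem _ hqN') g).mpr (by simpa using h2)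
          exact h3
        unfold subgroupBlockCoeff
        rw [dif_neg h1]
  have hcj : ∀ q ∈ S₁, cj q.out X = X := by
    intro q hq
    have hqN := (Finset.mem_filter.mp hq).2
    have hqN' := mem_normalizer_centralizer hqN
    ext g
    rw [coeff_cj, hX]
    by_cases hg : g ∈ Subgroup.centralizer (P : Set G)
    · have h1 : (q.out)⁻¹ * g * q.out ∈ Subgroup.centralizer (P : Set G) := by
        have h2 := (Subgroup.mem_normalizer_iff.mp (Subgroup.inv_mem _ hqN') g).mp hg
        simpa using h2
      rw [coeff_res_of_mem _ hg, coeff_res_of_mem _ h1]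
      have := isCentral_of_mem z g (q.out)⁻¹
      simpa using this
    · have h1 : (q.out)⁻¹ * g * q.out ∉ Subgroup.centralizer (P : Set G) := by
        intro h2
        apply hg
        exact (Subgroup.mem_normalizer_iff.mp (Subgroup.inv_mem _ hqN') g).mpr (by simpa using h2)
      rw [coeff_res_of_notMem _ hg, coeff_res_of_notMem _ h1]
  have hXy : Jc M (X * y) := by
    rw [hy, Finset.mul_sum]
    refine Jc.sum _ _ fun q hq => ?_
    have h1 : X * cj q.out (subIdem (Subgroup.centralizer (P : Set G)) e) = cj q.out (X * subIdem (Subgroup.centralizer (P : Set G)) e) := by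
      rw [cj_mul, hcj q hq]
    rw [h1]
    exact jc_cj hJ _
  have hXr : Rc M X := Rc.res _ (Rc.of_localCenter hz)
  have hXz : Jc M (X * res (Subgroup.centralizer (P : Set G) : Subgroup G) (zc : GA G)) := by
    have h1 := (Rc.mul_Jc hXr hres).add hXy
    have e1 : X * (res (Subgroup.centralizer (P : Set G) : Subgroup G) (zc : GA G) - y) + X * y = X * res (Subgroup.centralizer (P : Set G) : Subgroup G) (zc : GA G) := by noncomm_ring
    rwa [e1] at h1
  -- the product
  have hprod : ∀ c ∈ Subgroup.centralizer (P : Set G), MemLocalIdeal M (((z * zc : Subalgebra.center ℂ (GA G)) : GA G).coeff c) := by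
    intro c hc
    have h2 := res_mul_sub_mem hM hP (QInv.of_central (isCentral_of_mem z))
      (QInv.of_central (isCentral_of_mem zc)) hz hzl
    have h3 := h2.add hXz
    rw [sub_add_cancel] at h3
    have h4 := h3 c
    rw [coeff_res_of_mem _ hc] at h4
    exact h4
  have hwe : (z * zc) * idem B = z * zc := by rw [mul_comm z, mul_assoc, hze]
  have h6 := jc_of_coeff_mem' hM hB hD0 hD hZ1 hZ2 hZ3 hP hg₀ hdc hκ
    (Subring.mul_mem _ hz hzl) hwe hprod
  exact jc_of_mul_unit hB hz hzl hze hχ hunit h6

end Main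

end Cfsg.Agent.Lib.BK.Core2
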