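import Mathlib
import Cfsg.Agent.Lib.BK.Core2
import Cfsg.Agent.Lib.BlockAlg.Reduce

/-!
# The reduction of the center of a block

For a central element `E`, `VE E` is the reduction of `(local center) * E`.  For `E = idem A` with local
coefficients its dimension over the residue field is the number of members of `A`.
-/

set_option autoImplicit false
set_option linter.unusedSectionVars false
set_option linter.style.haveILetI false

namespace Cfsg.Agent.Lib.BK.Dim

open Cfsg MonoidAlgebra Module
open Cfsg.Agent.Lib.Blocks.Local Cfsg.Agent.Lib.Blocks.Central Cfsg.Agent.Lib.Blocks.Brauer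
open Cfsg.Agent.Lib.Blocks.Induced
open Cfsg.Agent.Lib.BlockAlg Cfsg.Agent.Lib.Blk89.BlockPow

universe u

variable {G : Type u} [Group G] [Fintype G] {M : Ideal AlgInt} [hMp : M.IsPrime]

/-- The reduction of the local center below `E`. -/
noncomputable def VE (M : Ideal AlgInt) [M.IsPrime] (E : Subalgebra.center ℂ (GA G)) :
    Submodule (Res M) (MonoidAlgebra (Res M) G) :=
  Submodule.span _ {x | ∃ z ∈ localCenter M G, x = red M ((z * E : Subalgebra.center ℂ (GA G)) : GA G)}

theorem exists_lift_res (c : Res M) : ∃ c' : ℂ, MemLocalRing M c' ∧ r M c' = c := by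
  obtain ⟨a, rfl⟩ := Ideal.Quotient.mk_surjective c
  exact ⟨a, a.2, r_of_mem a⟩

/-- The reduction of the center is a subspace. -/
theorem mem_VE_iff {E : Subalgebra.center ℂ (GA G)} (hE : E ∈ localCenter M G)
    {x : MonoidAlgebra (Res M) G} :
    x ∈ VE M E ↔ ∃ z ∈ localCenter M G, x = red M ((z * E : Subalgebra.center ℂ (GA G)) : GA G) := by
  constructor
  · intro hx
    induction hx using Submodule.span_induction with
    | mem x h => exact h
    | zero =>
      refine ⟨0, Subring.zero_mem _, ?_⟩
      ext g
      simp only [zero_mul, coeff_red]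
      exact r_zero.symm
    | add x y _ _ hx hy =>
      obtain ⟨a, ha, rfl⟩ := hx
      obtain ⟨b, hb, rfl⟩ := hy
      refine ⟨a + b, Subring.add_mem _ ha hb, ?_⟩
      rw [add_mul, AddMemClass.coe_add, red_add (Rc.of_localCenter (Subring.mul_mem _ ha hE))
        (Rc.of_localCenter (Subring.mul_mem _ hb hE))]
    | smul c x _ hx =>
      obtain ⟨a, ha, rfl⟩ := hx
      obtain ⟨c', hc', rfl⟩ := exists_lift_res c
      refine ⟨c' • a, smul_mem_localCenter hc' ha, ?_⟩
      rw [smul_mul_assoc]
      exact (red_smul hc' (Rc.of_localCenter (Subring.mul_mem _ ha hE))).symm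
  · intro h
    exact Submodule.subset_span h

/-- An independent family in the reduction of the center below `idem A`. -/
theorem finrank_VE_le [Fintype (IrrCharacter G)] {A : Set (IrrCharacter G)} (hA : idem A ∈ localCenter M G) :
    finrank (Res M) (VE M (idem A)) ≤ Nat.card A := by
  classical
  haveI := finite_groupAlg (G := G) (Res M)
  set R := finrank (Res M) (VE M (idem A)) with hR
  obtain ⟨v, hv, hind⟩ := exists_indep_fin (K := Res M)
    {x : MonoidAlgebra (Res M) G | ∃ z ∈ localCenter M G,
      x = red M ((z * idem A : Subalgebra.center ℂ (GA G)) : GA G)} R rfl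
  choose z hz hvz using hv
  let w : Fin R → Subalgebra.center ℂ (GA G) := fun i => z i * idem A
  have hwl : ∀ i, w i ∈ localCenter M G := fun i => Subring.mul_mem _ (hz i) hA
  let N : Matrix (Fin R) G (localSubring M) := Matrix.of fun i g => ⟨(w i : GA G).coeff g, hwl i g⟩
  have h1 : (N.map (Ideal.Quotient.mk (localIdeal M))).rank = R := by
    have hrow : (N.map (Ideal.Quotient.mk (localIdeal M))).row =
        fun i => (coeffEquivK (K := Res M) (G := G)).symm (v i) := by
      funext i g
      change Ideal.Quotient.mk (localIdeal M) (⟨(w i : GA G).coeff g, hwl i g⟩ : localSubring M) = (v i).coeff g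
      rw [hvz i, coeff_red, ← r_of_mem]
    have h2 : LinearIndependent (Res M) (N.map (Ideal.Quotient.mk (localIdeal M))).row := by
      rw [hrow]
      exact hind.map' _ (LinearEquiv.ker _)
    simpa using h2.rank_matrix
  have h2 := rank_map_le (Ideal.Quotient.mk (localIdeal M)) (localSubring M).subtype Subtype.val_injective N
  rw [h1] at h2
  set N' : Matrix (Fin R) G ℂ := N.map (localSubring M).subtype with hN'
  have h3 : N'.rank = R := le_antisymm (by simpa using N'.rank_le_card_height) h2
  have hrowind : LinearIndependent ℂ N'.row := by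
    rw [linearIndependent_iff_card_eq_finrank_span]
    change _ = finrank ℂ (Submodule.span ℂ (Set.range N'.row))
    rw [← Matrix.rank_eq_finrank_span_row, h3]
    simp
  let f : Fin R → (A → ℂ) := fun i χ => omegaHom (χ : IrrCharacter G) (w i)
  have hf : LinearIndependent ℂ f := by
    rw [Fintype.linearIndependent_iff] at hrowind ⊢
    intro c hc
    apply hrowind c
    -- the central element
    let x : Subalgebra.center ℂ (GA G) := ∑ i, c i • w i
    have hx : x = 0 := by
      apply eq_zero_of_omegaHom_eq_zero
      intro χ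
      by_cases hχ : χ ∈ A
      · have := congrFun hc ⟨χ, hχ⟩
        simp only [Finset.sum_apply, Pi.smul_apply, smul_eq_mul, Pi.zero_apply, f] at this
        simp only [x, map_sum, map_smul, smul_eq_mul]
        exact this
      · simp only [x, map_sum, map_smul, smul_eq_mul]
        refine Finset.sum_eq_zero fun i _ => ?_
        simp only [w, map_mul, omegaHom_idem, if_neg hχ, mul_zero]
    funext g
    have h4 := congrArg (fun t : Subalgebra.center ℂ (GA G) => (t : GA G).coeff g) hx
    simp only [x, AddSubmonoidClass.coe_finsetSum, coeff_sum'] at h4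
    simp only [Finset.sum_apply, Pi.smul_apply, smul_eq_mul, Pi.zero_apply]
    exact h4
  have h5 := hf.fintype_card_le_finrank
  simp only [Fintype.card_fin, Module.finrank_fintype_fun_eq_card] at h5
  rw [← Nat.card_eq_fintype_card] at h5
  exact h5

/-- The complement. -/
theorem idem_compl [Fintype (IrrCharacter G)] (A : Set (IrrCharacter G)) : idem Aᶜ = 1 - idem A := by
  classical
  symm
  apply eq_idem_of_omegaHom
  intro ψ
  rw [map_sub, map_one, omegaHom_idem]
  by_cases h : ψ ∈ A
  · simp [h]
  · simp [h]

/-- The lower bound. -/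
theorem card_le_finrank_VE [Fintype (IrrCharacter G)] {A : Set (IrrCharacter G)} (hA : idem A ∈ localCenter M G) :
    Nat.card A ≤ finrank (Res M) (VE M (idem A)) := by
  classical
  haveI := finite_groupAlg (G := G) (Res M)
  letI : Fintype (ConjClasses G) := Fintype.ofFinite _
  have hAc : idem Aᶜ ∈ localCenter M G := by
    rw [idem_compl]
    exact Subring.sub_mem _ (Subring.one_mem _) hA
  let f : ConjClasses G → MonoidAlgebra (Res M) G := fun C => red M (classSum C.out : GA G)
  have hfind : LinearIndependent (Res M) f := by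
    rw [Fintype.linearIndependent_iff]
    intro c hc C₀
    have h1 := congrArg (fun t : MonoidAlgebra (Res M) G => t.coeff C₀.out) hc
    simp only [MonoidAlgebra.coeff_sum, Finsupp.finsetSum_apply, coeff_smulK] at h1
    have h2 : ∀ C : ConjClasses G, (f C).coeff C₀.out = if C = C₀ then 1 else 0 := by
      intro C
      simp only [f, coeff_red]
      rw [coeff_classSum]
      by_cases hC : C = C₀
      · subst hC
        rw [if_pos (IsConj.refl _), if_pos rfl, r_one]
      · rw [if_neg, if_neg hC, r_zero]
        intro hconj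
        apply hC
        rw [← out_isConj C, ← out_isConj C₀]
        exact ConjClasses.mk_eq_mk_iff_isConj.mpr hconj
    simp only [h2, mul_ite, mul_one, mul_zero, Finset.sum_ite_eq', Finset.mem_univ, if_true] at h1
    exact h1
  have hmem : ∀ C, f C ∈ VE M (idem A) ⊔ VE M (idem Aᶜ) := by
    intro C
    have h1 : (classSum C.out : Subalgebra.center ℂ (GA G)) =
        classSum C.out * idem A + classSum C.out * idem Aᶜ := by
      rw [idem_compl]
      have key : ∀ a b : Subalgebra.center ℂ (GA G), a = a * b + a * (1 - b) := fun a b => by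
        apply Subtype.ext
        change (a : GA G) = (a : GA G) * (b : GA G) + (a : GA G) * (1 - (b : GA G))
        noncomm_ring
      exact key _ _
    have hl := classSum_mem_localCenter (M := M) C.out
    have h2 : f C = red M ((classSum C.out * idem A : Subalgebra.center ℂ (GA G)) : GA G) +
        red M ((classSum C.out * idem Aᶜ : Subalgebra.center ℂ (GA G)) : GA G) := by
      rw [← red_add (Rc.of_localCenter (Subring.mul_mem _ hl hA)) (Rc.of_localCenter (Subring.mul_mem _ hl hAc)),
        ← AddMemClass.coe_add, ← h1]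
    rw [h2]
    exact Submodule.add_mem_sup (Submodule.subset_span ⟨_, hl, rfl⟩) (Submodule.subset_span ⟨_, hl, rfl⟩)
  have h3 : Fintype.card (ConjClasses G) ≤ finrank (Res M) ↥(VE M (idem A) ⊔ VE M (idem Aᶜ)) := by
    have h4 : LinearIndependent (Res M) (fun C => (⟨f C, hmem C⟩ : ↥(VE M (idem A) ⊔ VE M (idem Aᶜ)))) := by
      apply LinearIndependent.of_comp (Submodule.subtype _)
      exact hfind
    exact h4.fintype_card_le_finrank
  have h5 := Submodule.finrank_add_le_finrank_add_finrank (VE M (idem A)) (VE M (idem Aᶜ))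
  have h6 := finrank_VE_le hAc
  have h7 : Nat.card (IrrCharacter G) = Fintype.card (ConjClasses G) := by
    rw [Cfsg.Agent.Lib.Char.Complete.card_irr_eq_card_conjClasses, Nat.card_eq_fintype_card]
  have h8 : Nat.card A + Nat.card (Aᶜ : Set (IrrCharacter G)) = Nat.card (IrrCharacter G) := by
    rw [← Nat.card_sum, Nat.card_congr (Equiv.Set.sumCompl A)]
  omega

/-! ### Comparison along restriction -/

section Restr

variable (H : Subgroup G) [Fintype H]

/-- Restriction of coefficients over the residue field. -/
noncomputable def restrK : MonoidAlgebra (Res M) G →ₗ[Res M] MonoidAlgebra (Res M) H where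
  toFun x := ofFunK fun h : H => x.coeff (h : G)
  map_add' _ _ := by
    ext h
    rfl
  map_smul' _ _ := by
    ext h
    rfl

@[simp] theorem coeff_restrK (x : MonoidAlgebra (Res M) G) (h : H) : (restrK H x).coeff h = x.coeff (h : G) := rfl

theorem restrK_red (x : GA G) : restrK H (red M x) = red M (restr H x) := by
  ext h
  rw [coeff_restrK, coeff_red, coeff_red, coeff_restr]

/-- The comparison map. -/
noncomputable def theta (E₀ : Subalgebra.center ℂ (GA H)) : MonoidAlgebra (Res M) G →ₗ[Res M] MonoidAlgebra (Res M) H :=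
  (LinearMap.mulRight (Res M) (red M (E₀ : GA H))).comp (restrK H)

theorem theta_apply (E₀ : Subalgebra.center ℂ (GA H)) (x : MonoidAlgebra (Res M) G) :
    theta H E₀ x = restrK H x * red M (E₀ : GA H) := rfl

/-- The central element obtained by restriction. -/
noncomputable def restrCen (z : Subalgebra.center ℂ (GA G)) : Subalgebra.center ℂ (GA H) :=
  ⟨restr H (z : GA G), (mem_center_iff _).mpr fun g h => isCentral_of_mem z (g : G) (h : G)⟩

@[simp] theorem coe_restrCen (z : Subalgebra.center ℂ (GA G)) : (restrCen H z : GA H) = restr H (z : GA G) := rfl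

theorem restrCen_mem {z : Subalgebra.center ℂ (GA G)} (hz : z ∈ localCenter M G) : restrCen H z ∈ localCenter M H :=
  fun h => hz (h : G)

variable {H}
variable {E : Subalgebra.center ℂ (GA G)} {E₀ : Subalgebra.center ℂ (GA H)}

theorem theta_mem (hE : E ∈ localCenter M G) (hE₀ : E₀ ∈ localCenter M H) {x : MonoidAlgebra (Res M) G}
    (hx : x ∈ VE M E) : theta H E₀ x ∈ VE M E₀ := by
  obtain ⟨z, hz, rfl⟩ := (mem_VE_iff hE).mp hx
  rw [theta_apply, restrK_red]
  refine Submodule.subset_span ⟨restrCen H (z * E), restrCen_mem H (Subring.mul_mem _ hz hE), ?_⟩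
  have e1 : ((restrCen H (z * E) * E₀ : Subalgebra.center ℂ (GA H)) : GA H) =
      restr H ((z * E : Subalgebra.center ℂ (GA G)) : GA G) * (E₀ : GA H) := rfl
  rw [e1, red_mul (Rc.restr H (Rc.of_localCenter (Subring.mul_mem _ hz hE))) (Rc.of_localCenter hE₀)]

/-- The reduction of a local element vanishes iff its coefficients lie in the local ideal. -/
theorem red_eq_zero_iff {K : Type u} [Group K] [Fintype K] {x : GA K} (hx : Rc M x) : red M x = 0 ↔ Jc M x := by
  constructor
  · intro h g
    have h1 := congrArg (fun t : MonoidAlgebra (Res M) K => t.coeff g) h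
    exact (r_eq_zero_iff (hx g)).mp h1
  · intro h
    ext g
    exact (r_eq_zero_iff (hx g)).mpr (h g)

/-- The comparison map is injective on `VE`, under the assumption of the injectivity of the Brauer map. -/
theorem theta_injOn (hE : E ∈ localCenter M G) (hE₀ : E₀ ∈ localCenter M H)
    (hinj : ∀ z ∈ localCenter M G, Jc M (restr H ((z * E : Subalgebra.center ℂ (GA G)) : GA G) * (E₀ : GA H)) →
      Jc M ((z * E : Subalgebra.center ℂ (GA G)) : GA G))
    {x : MonoidAlgebra (Res M) G} (hx : x ∈ VE M E) (h0 : theta H E₀ x = 0) : x = 0 := by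
  obtain ⟨z, hz, rfl⟩ := (mem_VE_iff hE).mp hx
  have hr : Rc M ((z * E : Subalgebra.center ℂ (GA G)) : GA G) := Rc.of_localCenter (Subring.mul_mem _ hz hE)
  rw [theta_apply, restrK_red, ← red_mul (Rc.restr H hr) (Rc.of_localCenter hE₀),
    red_eq_zero_iff ((Rc.restr H hr).mul (Rc.of_localCenter hE₀))] at h0
  exact (red_eq_zero_iff hr).mpr (hinj z hz h0)

/-- The comparison map on the subspaces. -/
noncomputable def thetaR (hE : E ∈ localCenter M G) (hE₀ : E₀ ∈ localCenter M H) : VE M E →ₗ[Res M] VE M E₀ :=
  (theta H E₀).restrict fun _ hx => theta_mem hE hE₀ hx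

theorem finrank_VE_le_of_inj (hE : E ∈ localCenter M G) (hE₀ : E₀ ∈ localCenter M H)
    (hinj : ∀ z ∈ localCenter M G, Jc M (restr H ((z * E : Subalgebra.center ℂ (GA G)) : GA G) * (E₀ : GA H)) →
      Jc M ((z * E : Subalgebra.center ℂ (GA G)) : GA G)) :
    finrank (Res M) (VE M E) ≤ finrank (Res M) (VE M E₀) := by
  haveI := finite_groupAlg (G := H) (Res M)
  refine LinearMap.finrank_le_finrank_of_injective (f := thetaR hE hE₀) ?_
  rw [← LinearMap.ker_eq_bot, LinearMap.ker_eq_bot']
  intro x hx
  apply Subtype.ext
  exact theta_injOn hE hE₀ hinj x.2 (congrArg Subtype.val hx)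

/-- If the dimensions agree, the comparison map is surjective. -/
theorem exists_preimage (hE : E ∈ localCenter M G) (hE₀ : E₀ ∈ localCenter M H)
    (hinj : ∀ z ∈ localCenter M G, Jc M (restr H ((z * E : Subalgebra.center ℂ (GA G)) : GA G) * (E₀ : GA H)) →
      Jc M ((z * E : Subalgebra.center ℂ (GA G)) : GA G))
    (hcard : finrank (Res M) (VE M E₀) ≤ finrank (Res M) (VE M E))
    {y : MonoidAlgebra (Res M) H} (hy : y ∈ VE M E₀) :
    ∃ z ∈ localCenter M G, y = red M (restr H ((z * E : Subalgebra.center ℂ (GA G)) : GA G)) * red M (E₀ : GA H) := by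
  haveI := finite_groupAlg (G := H) (Res M)
  haveI := finite_groupAlg (G := G) (Res M)
  have hfe : finrank (Res M) (VE M E) = finrank (Res M) (VE M E₀) :=
    le_antisymm (finrank_VE_le_of_inj hE hE₀ hinj) hcard
  have hinj' : Function.Injective (thetaR hE hE₀) := by
    rw [← LinearMap.ker_eq_bot, LinearMap.ker_eq_bot']
    intro x hx
    apply Subtype.ext
    exact theta_injOn hE hE₀ hinj x.2 (congrArg Subtype.val hx)
  have hsurj := (LinearMap.injective_iff_surjective_of_finrank_eq_finrank hfe).mp hinj'
  obtain ⟨x, hx⟩ := hsurj ⟨y, hy⟩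
  obtain ⟨z, hz, hxz⟩ := (mem_VE_iff hE).mp x.2
  refine ⟨z, hz, ?_⟩
  have h1 : theta H E₀ (x : MonoidAlgebra (Res M) G) = y := congrArg Subtype.val hx
  rw [← h1, theta_apply, hxz, restrK_red]

end Restr

end Cfsg.Agent.Lib.BK.Dim
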