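import Mathlib
import Cfsg.Agent.Lib.BK.Dim
import Cfsg.Agent.Lib.BP.Nil4
import Cfsg.Agent.Lib.Star.Gen
import Cfsg.Agent.Lib.BlockH.AbelianDefect
import Cfsg.Agent.Lib.Char.Linear

/-!
# Numerical consequences; blocks with central defect groups

* If all members of `B` have the same degree, the order of a defect group divides the number of members of `B`.
* A block with central defect group `Z` has at most `|Z|` members.
* A local idempotent invariant modulo the local ideal under left multiplication by a nontrivial central `p`-element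
  vanishes.
-/

set_option autoImplicit false
set_option linter.unusedSectionVars false
set_option linter.style.haveILetI false

namespace Cfsg.Agent.Lib.BK.Core3

open Cfsg MonoidAlgebra Module
open Cfsg.Agent.Lib.Blocks.Local Cfsg.Agent.Lib.Blocks.Central Cfsg.Agent.Lib.Blocks.Brauer
open Cfsg.Agent.Lib.Blocks.Induced Cfsg.Agent.Lib.Blocks.Weak Cfsg.Agent.Lib.Blocks.Inducing
open Cfsg.Agent.Lib.BlockAlg Cfsg.Agent.Lib.Blk89.BlockPow
open Cfsg.Agent.Lib.Char.Basic Cfsg.Agent.Lib.Char.Complete Cfsg.Agent.Lib.Char.Ortho Cfsg.Agent.Lib.Char.Degree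
open Cfsg.Agent.Lib.BlockH.MaxPair Cfsg.Agent.Lib.BlockT.SylowIn
open Cfsg.Agent.Lib.BlockH.Subpair Cfsg.Agent.Lib.BlockH.SubpairLE Cfsg.Agent.Lib.BlockH.BrauerMap
open scoped ComplexConjugate

universe u

variable {G : Type u} [Group G] [Fintype G] {M : Ideal AlgInt} {p : ℕ} {B : Set (IrrCharacter G)}

section Numbers

variable [Fact p.Prime]

/-- The defect, when all degrees agree. -/
theorem blockDefect_of_same {D : ℕ} (hB : B.Nonempty) (hdeg : ∀ χ ∈ B, charDegree (χ : G → ℂ) = D) :
    blockDefect p B = (Nat.card G).factorization p - D.factorization p := by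
  have h1 : ((fun χ : IrrCharacter G => (charDegree (χ : G → ℂ)).factorization p) '' B) = {D.factorization p} := by
    ext n
    constructor
    · rintro ⟨χ, hχ, rfl⟩
      simp [hdeg χ hχ]
    · rintro rfl
      obtain ⟨χ, hχ⟩ := hB
      exact ⟨χ, hχ, by simp [hdeg χ hχ]⟩
  rw [blockDefect, h1]
  simp

/-- A ratio of natural numbers is local when the denominator has the smaller `p`-part. -/
theorem memLocalRing_div {a b : ℕ} (hM : IsPModular p M) [M.IsPrime] (ha : a ≠ 0) (hb : b ≠ 0)
    (h : b.factorization p ≤ a.factorization p) : MemLocalRing M ((a : ℂ) / (b : ℂ)) := by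
  have hp : p.Prime := Fact.out
  have h1 := Nat.ordProj_mul_ordCompl_eq_self a p
  have h2 := Nat.ordProj_mul_ordCompl_eq_self b p
  have hm := Nat.not_dvd_ordCompl hp hb
  set a' := a / p ^ a.factorization p with ha'
  set b' := b / p ^ b.factorization p with hb'
  have hpc : (p : ℂ) ≠ 0 := by exact_mod_cast hp.ne_zero
  have hbc : (b' : ℂ) ≠ 0 := by
    intro h0
    have : b' = 0 := by exact_mod_cast h0
    rw [this] at hm
    exact hm (dvd_zero p)
  have e : (a : ℂ) / (b : ℂ) = (p : ℂ) ^ (a.factorization p - b.factorization p) * (a' : ℂ) * (b' : ℂ)⁻¹ := by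
    have ea : (a : ℂ) = (p : ℂ) ^ a.factorization p * a' := by
      rw [← Nat.cast_pow, ← Nat.cast_mul, h1]
    have eb : (b : ℂ) = (p : ℂ) ^ b.factorization p * b' := by
      rw [← Nat.cast_pow, ← Nat.cast_mul, h2]
    have epow : (p : ℂ) ^ a.factorization p =
        (p : ℂ) ^ (a.factorization p - b.factorization p) * (p : ℂ) ^ b.factorization p := by
      rw [← pow_add, Nat.sub_add_cancel h]
    rw [ea, eb, epow]
    have hpp : (p : ℂ) ^ b.factorization p ≠ 0 := pow_ne_zero _ hpc
    field_simp
  rw [e]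
  exact memLocalRing_mul (memLocalRing_mul (memLocalRing_pow (memLocalRing_natCast p) _) (memLocalRing_natCast a'))
    (memLocalRing_natCast_inv hM hm)

/-- **The order of a defect group divides the number of characters.** -/
theorem card_defect_dvd [Fintype (IrrCharacter G)] (hM : IsPModular p M) (hB : IsPBlock M B) {P : Subgroup G}
    (hP : IsDefectGroup p M B P) {D : ℕ} (hdeg : ∀ χ ∈ B, charDegree (χ : G → ℂ) = D) :
    Nat.card P ∣ Nat.card B := by
  classical
  haveI := isPrime_of_pModular hM
  have hp : p.Prime := Fact.out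
  obtain ⟨χ₀, hχ₀⟩ := isPBlock_nonempty hB
  have hD0 : D ≠ 0 := by
    rw [← hdeg χ₀ hχ₀]
    exact (charDegree_pos χ₀.2).ne'
  have hD1 : ∀ χ ∈ B, (χ : G → ℂ) 1 = (D : ℂ) := fun χ hχ => by
    rw [← hdeg χ hχ, charDegree_natCast (isCharacter_of_isIrrCharacter χ.2)]
  have hDdvd : D ∣ Nat.card G := hdeg χ₀ hχ₀ ▸ charDegree_dvd_card χ₀.2
  obtain ⟨S⟩ : Nonempty (Sylow p G) := inferInstance
  letI : Fintype (S : Subgroup G) := Fintype.ofFinite _
  set F := Finset.univ.filter (· ∈ B) with hF
  -- the sum over the Sylow subgroup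
  have hvan : ∀ s : (S : Subgroup G), s ≠ 1 → ∑ χ ∈ F, (χ : G → ℂ) (s : G) = 0 := by
    intro s hs
    have hord : p ∣ orderOf (s : G) := by
      obtain ⟨k, hk⟩ := (IsPGroup.iff_orderOf.mp S.2) s
      rw [Subgroup.orderOf_coe, hk]
      have hk0 : k ≠ 0 := by
        rintro rfl
        rw [pow_zero, orderOf_eq_one_iff] at hk
        exact hs hk
      exact dvd_pow_self p hk0
    have h1 := sum_block_eq_zero hM hB 1 (s : G) (by simpa using hp.one_lt.ne') hord
    have h2 : ∑ χ : IrrCharacter G, (if χ ∈ B then (χ : G → ℂ) 1 * conj ((χ : G → ℂ) (s : G)) else 0) =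
        (D : ℂ) * conj (∑ χ ∈ F, (χ : G → ℂ) (s : G)) := by
      rw [map_sum, Finset.mul_sum, hF, Finset.sum_filter]
      refine Finset.sum_congr rfl fun χ _ => ?_
      split_ifs with hχ
      · rw [hD1 χ hχ]
      · rfl
    rw [h2] at h1
    have hD0c : (D : ℂ) ≠ 0 := Nat.cast_ne_zero.mpr hD0
    have h3 := (mul_eq_zero.mp h1).resolve_left hD0c
    exact (map_eq_zero _).mp h3
  have hsum : ∑ s : (S : Subgroup G), ∑ χ ∈ F, (χ : G → ℂ) (s : G) = (F.card : ℂ) * (D : ℂ) := by
    rw [Finset.sum_eq_single (1 : (S : Subgroup G))]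
    · rw [Finset.sum_congr rfl fun χ hχ => by
        change (χ : G → ℂ) 1 = (D : ℂ)
        exact hD1 χ (Finset.mem_filter.mp hχ).2]
      simp
    · intro s _ hs
      exact hvan s hs
    · intro h
      exact absurd (Finset.mem_univ _) h
  -- each character gives a natural number
  have hnat : ∀ χ : IrrCharacter G, ∃ n : ℕ,
      ∑ s : (S : Subgroup G), (χ : G → ℂ) (s : G) = (Nat.card (S : Subgroup G) : ℂ) * n := by
    intro χ
    have hres := isCharacter_restrict (S : Subgroup G) (isCharacter_of_isIrrCharacter χ.2)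
    have h1 : IsCharacter (S : Subgroup G) (fun _ => (1 : ℂ)) :=
      Cfsg.Agent.Lib.CharDeep.LinearChar.isCharacter_of_hom (1 : (S : Subgroup G) →* ℂˣ) |> fun h => by
        simpa using h
    obtain ⟨n, hn⟩ := exists_nat_classInner hres h1
    refine ⟨n, ?_⟩
    rw [← hn, classInner]
    have hc : (Nat.card (S : Subgroup G) : ℂ) ≠ 0 := Nat.cast_ne_zero.mpr Nat.card_pos.ne'
    simp only [map_one, mul_one]
    field_simp
  choose n hn using hnat
  have h5 : ((F.card * D : ℕ) : ℂ) = ((Nat.card (S : Subgroup G) * ∑ χ ∈ F, n χ : ℕ) : ℂ) := by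
    push_cast
    rw [← hsum, Finset.sum_comm, Finset.mul_sum]
    exact Finset.sum_congr rfl fun χ _ => hn χ
  have h6 : F.card * D = Nat.card (S : Subgroup G) * ∑ χ ∈ F, n χ := by exact_mod_cast h5
  have h7 : Nat.card (S : Subgroup G) ∣ F.card * D := ⟨_, h6⟩
  -- the arithmetic
  have hcard := card_eq_pow_blockDefect hM hB hP
  rw [blockDefect_of_same (isPBlock_nonempty hB) hdeg] at hcard
  have hF' : Nat.card B = F.card := by
    rw [Nat.card_eq_fintype_card, Fintype.card_subtype]
  rw [hF', hcard]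
  have hS : Nat.card (S : Subgroup G) = p ^ (Nat.card G).factorization p := S.card_eq_multiplicity
  rw [hS] at h7
  have hD2 := Nat.ordProj_mul_ordCompl_eq_self D p
  have hm := Nat.not_dvd_ordCompl hp hD0
  set δ := D.factorization p with hδ
  set D' := D / p ^ δ with hD'
  set a := (Nat.card G).factorization p with ha
  have hle : δ ≤ a := (Nat.factorization_le_iff_dvd hD0 Nat.card_pos.ne').mpr hDdvd p
  rw [← hD2] at h7
  have h8 : p ^ a = p ^ δ * p ^ (a - δ) := by rw [← pow_add, Nat.add_sub_cancel' hle]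
  rw [h8, show F.card * (p ^ δ * D') = p ^ δ * (F.card * D') by ring] at h7
  have h9 := Nat.dvd_of_mul_dvd_mul_left (pow_pos hp.pos δ) h7
  exact (Nat.Coprime.pow_left _ ((Nat.Prime.coprime_iff_not_dvd hp).mpr hm)).dvd_of_dvd_mul_right h9

end Numbers

/-! ### Central defect groups -/

section Central

variable [Fact p.Prime]

/-- **A block with central defect group.** -/
theorem card_le_of_central_defect (hM : IsPModular p M) {b : Set (IrrCharacter G)} (hb : IsPBlock M b)
    {Z : Subgroup G} (hZ : IsDefectGroup p M b Z) (hZc : Z ≤ Subgroup.center G) :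
    Nat.card b ≤ Nat.card Z := by
  classical
  haveI := isPrime_of_pModular hM
  have hnil : IsNilpotentBlock p M b := by
    refine ⟨hb, fun Q f hQf x _ _ _ => ?_⟩
    obtain ⟨y, hy⟩ := exists_conj_le_defect_of_pair hM hQf hZ
    rw [Subgroup.mem_centralizer_iff]
    intro q hq
    have h1 : y * q * y⁻¹ ∈ Z := hy ⟨q, hq, rfl⟩
    have h2 := Subgroup.mem_center_iff.mp (hZc h1)
    have h3 : y * (y * q * y⁻¹) = y * q * y⁻¹ * y := h2 y
    have h4 : q = y * q * y⁻¹ := by
      have : y * q = y * (y * q * y⁻¹) := by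
        rw [h3]
        group
      exact mul_left_cancel this
    rw [h4]
    exact (h2 x).symm
  obtain ⟨Φ, -⟩ := Cfsg.Agent.Lib.BP.Nil4.nilpotent_bijection hM
    (fun _ hmax _ hgen hst _ hχ => Cfsg.Agent.Lib.Star.star_isGenChar hM hmax hgen hst hχ) hnil hZ
  rw [Nat.card_congr Φ, card_irr_eq_card_conjClasses]
  have hcomm : ∀ a c : Z, a * c = c * a := fun a c => by
    apply Subtype.ext
    exact (Subgroup.mem_center_iff.mp (hZc a.2) c).symm
  rw [Cfsg.Agent.Lib.Char.Linear.card_conjClasses_of_comm hcomm]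

end Central

/-! ### Idempotents invariant under a central element -/

section Free

variable {Q X : Type*} [Group Q] [Finite Q] [MulAction Q X] [Fintype X]

/-- Sums of functions invariant modulo the local ideal on a free orbit. -/
theorem sum_mem_of_free (hM : IsPModular p M) (hQ : IsPGroup p Q) (f : X → ℂ) (hloc : ∀ x, MemLocalRing M (f x))
    (hinv : ∀ (q : Q) (x : X), MemLocalIdeal M (f (q • x) - f x))
    (hfree : ∀ x : X, ¬ ∀ q : Q, q • x = x) : MemLocalIdeal M (∑ x, f x) := by
  classical
  haveI := isPrime_of_pModular hM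
  choose s hs hrs using fun c : Res M => Cfsg.Agent.Lib.BK.Dim.exists_lift_res (M := M) c
  let f' : X → ℂ := fun x => s (r M (f x))
  have h1 : MemLocalIdeal M (∑ x, f' x) := by
    refine sum_zero_on_fixed_mem hM hQ f' (fun q x => ?_) (fun x => hs _) (fun x hx => absurd hx (hfree x))
    simp only [f']
    rw [r_eq_of_sub (hloc _) (hloc _) (hinv q x)]
  have h2 : ∀ x, MemLocalIdeal M (f x - f' x) := by
    intro x
    have hl := hs (r M (f x))
    rw [← r_eq_zero_iff (memLocalRing_sub (hloc x) hl), Cfsg.Agent.Lib.BlockAlg.r_sub' (hloc x) hl, hrs, sub_self]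
  have h3 := memLocalIdeal_add (memLocalIdeal_sum Finset.univ (fun x => f x - f' x) fun x _ => h2 x) h1
  rw [Finset.sum_sub_distrib, sub_add_cancel] at h3
  exact h3

end Free

section Idem

variable [Fact p.Prime]

/-- A local idempotent, supported on `C`, invariant modulo `J` under left multiplication by a nontrivial
`p`-element central in `C`, vanishes. -/
theorem eq_one_of_jc [M.IsPrime] (hM : IsPModular p M) {C : Subgroup G} {w : G} (hwC : w ∈ C)
    (hwc : ∀ c ∈ C, w * c = c * w) (hwp : ∃ k : ℕ, orderOf w = p ^ k) {x : GA G} (hxx : x * x = x)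
    (hx : Rc M x) (hS : ∀ g, g ∉ C → x.coeff g = 0) (hx0 : x ≠ 0)
    (hJ : Jc M ((single w 1 - 1) * x)) : w = 1 := by
  classical
  by_contra hw1
  apply hx0
  -- invariance
  let K : Subgroup G :=
    { carrier := {q | ∀ g, MemLocalIdeal M (x.coeff (q * g) - x.coeff g)}
      mul_mem' := by
        intro a b ha hb g
        have h1 := ha (b * g)
        have h2 := hb g
        have h3 := memLocalIdeal_add h1 h2
        rw [mul_assoc]
        convert h3 using 1
        ring
      one_mem' := by
        intro g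
        rw [one_mul, sub_self]
        exact memLocalIdeal_zero
      inv_mem' := by
        intro a ha g
        have h1 := ha (a⁻¹ * g)
        rw [mul_inv_cancel_left] at h1
        exact memLocalIdeal_neg h1 |> fun h => by simpa using h }
  have hwK : w ∈ K := by
    intro g
    have h1 := hJ (w * g)
    have e : ((single w 1 - 1) * x).coeff (w * g) = x.coeff g - x.coeff (w * g) := by
      rw [sub_mul, one_mul, coeff_sub', Cfsg.Agent.Lib.BP.Cj.coeff_single_mul', inv_mul_cancel_left]
    rw [e] at h1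
    have h2 := memLocalIdeal_neg h1
    simpa using h2
  have hQK : Subgroup.zpowers w ≤ K := (Subgroup.zpowers_le).mpr hwK
  have hQC : Subgroup.zpowers w ≤ C := (Subgroup.zpowers_le).mpr hwC
  have hQp : IsPGroup p (Subgroup.zpowers w) := by
    rw [IsPGroup.iff_card]
    obtain ⟨k, hk⟩ := hwp
    exact ⟨k, by rw [Nat.card_zpowers, hk]⟩
  have hQc : ∀ q ∈ Subgroup.zpowers w, ∀ c ∈ C, q * c = c * q := by
    intro q hq c hc
    obtain ⟨n, rfl⟩ := Subgroup.mem_zpowers_iff.mp hq
    exact ((Commute.zpow_left (show Commute w c from hwc c hc) n)).eq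
  have hJx : Jc M x := by
    intro g
    rw [← hxx, coeff_mul_sum]
    refine sum_mem_of_free (Q := Subgroup.zpowers w) hM hQp (fun h => x.coeff h * x.coeff (h⁻¹ * g))
      (fun h => memLocalRing_mul (hx h) (hx _)) ?_ ?_
    · rintro ⟨q, hq⟩ h
      change MemLocalIdeal M (x.coeff (q * h) * x.coeff ((q * h)⁻¹ * g) - x.coeff h * x.coeff (h⁻¹ * g))
      by_cases hh : h ∈ C
      · have h1 := hQK hq h
        have h2 := hQK (Subgroup.inv_mem _ hq) (h⁻¹ * g)
        have e : (q * h)⁻¹ * g = q⁻¹ * (h⁻¹ * g) := by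
          have := hQc q hq h hh
          rw [this]
          group
        rw [e]
        have e2 : x.coeff (q * h) * x.coeff (q⁻¹ * (h⁻¹ * g)) - x.coeff h * x.coeff (h⁻¹ * g) =
            (x.coeff (q * h) - x.coeff h) * x.coeff (q⁻¹ * (h⁻¹ * g)) +
              x.coeff h * (x.coeff (q⁻¹ * (h⁻¹ * g)) - x.coeff (h⁻¹ * g)) := by ring
        rw [e2]
        exact memLocalIdeal_add (memLocalIdeal_mul_right h1 (hx _)) (memLocalIdeal_mul_left (hx _) h2)
      · have h3 : q * h ∉ C := fun h4 => hh (by
          have := C.mul_mem (C.inv_mem (hQC hq)) h4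
          simpa using this)
        rw [hS _ h3, hS _ hh]
        simpa using memLocalIdeal_zero
    · intro h hfix
      have h1 := hfix ⟨w, Subgroup.mem_zpowers w⟩
      have h2 : w * h = h := h1
      exact hw1 (mul_eq_right.mp h2)
  exact Cfsg.Agent.Lib.BP.Fit.eq_zero_of_idem_of_Jc hxx hJx

end Idem

end Cfsg.Agent.Lib.BK.Core3
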