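import Mathlib
import Cfsg.Agent.Lib.BK.Core3

/-!
# The main theorem on the center of a block

Let `B` be a block, all of whose members have the same degree, and such that for every local `y` there is a local
central `Z y` below `idem B` with `ω_χ(Z y) = χ(y)` on `B`.  Then `B` is nilpotent with abelian defect group `P` and
`|B| = |P|`.
-/

set_option autoImplicit false
set_option linter.unusedSectionVars false
set_option linter.style.haveILetI false

namespace Cfsg.Agent.Lib.BK.Core4

open Cfsg MonoidAlgebra Module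
open Cfsg.Agent.Lib.Blocks.Local Cfsg.Agent.Lib.Blocks.Central Cfsg.Agent.Lib.Blocks.Brauer
open Cfsg.Agent.Lib.Blocks.Induced Cfsg.Agent.Lib.Blocks.Weak Cfsg.Agent.Lib.Blocks.Inducing
open Cfsg.Agent.Lib.BlockAlg Cfsg.Agent.Lib.Blk89.BlockPow
open Cfsg.Agent.Lib.Char.Basic Cfsg.Agent.Lib.Char.Complete Cfsg.Agent.Lib.Char.Ortho Cfsg.Agent.Lib.Char.Degree
open Cfsg.Agent.Lib.BlockH.MaxPair Cfsg.Agent.Lib.BlockT.SylowIn
open Cfsg.Agent.Lib.BlockH.Subpair Cfsg.Agent.Lib.BlockH.SubpairLE Cfsg.Agent.Lib.BlockH.BrauerMap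
open Cfsg.Agent.Lib.BlockH.FusionB Cfsg.Agent.Lib.BlockH.Saturation Cfsg.Agent.Lib.BlockH.AbelianDefect
open Cfsg.Agent.Lib.BK.Coef Cfsg.Agent.Lib.BK.Core1 Cfsg.Agent.Lib.BK.Core2 Cfsg.Agent.Lib.BK.Core3
open Cfsg.Agent.Lib.BK.Dim Cfsg.Agent.Lib.BP.Cj
open Cfsg.Agent.Lib.Blocks.Defect Cfsg.Agent.Lib.Blocks.Defect2 Cfsg.Agent.Lib.BlockH.Pairs

universe u

variable {G : Type u} [Group G] [Fintype G] {M : Ideal AlgInt} {p : ℕ} {B : Set (IrrCharacter G)}
  {P : Subgroup G} {e : Set (IrrCharacter (Subgroup.centralizer (P : Set G)))}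

section

variable [Fact p.Prime]

/-- The defect group of the block at a maximal pair. -/
theorem isDefectGroup_top (hM : IsPModular p M) (hmax : IsMaximalBrauerPair p M B P e) :
    IsDefectGroup p M e ((P ⊓ Subgroup.centralizer (P : Set G)).subgroupOf (Subgroup.centralizer (P : Set G))) := by
  classical
  haveI := isPrime_of_pModular hM
  obtain ⟨F, hF⟩ := exists_blockFusion hM hmax
  refine (isFullyCentralized_iff hM hmax hF le_rfl hmax.1.1.2 Relation.ReflTransGen.refl).mp ⟨le_rfl, ?_⟩
  intro Q' hQ'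
  obtain ⟨g, rfl, hg⟩ := exists_conj_of_isConj hM hF le_rfl hmax.1.1.2 Relation.ReflTransGen.refl hQ'
  have h1 : P.map (MulAut.conj g).toMonoidHom = P :=
    Subgroup.eq_of_le_of_card_ge (le_of_subpairLE hg) (card_conj_eq P g).ge
  rw [h1]

theorem card_e_le (hM : IsPModular p M) (hmax : IsMaximalBrauerPair p M B P e)
    [Fintype (Subgroup.centralizer (P : Set G))] :
    Nat.card e ≤ Nat.card (P ⊓ Subgroup.centralizer (P : Set G) : Subgroup G) := by
  have h1 := card_le_of_central_defect hM hmax.1.1.2 (isDefectGroup_top hM hmax) (by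
    intro a ha
    rw [Subgroup.mem_center_iff]
    intro c
    have ha' := Subgroup.mem_subgroupOf.mp ha
    apply Subtype.ext
    exact (Subgroup.mem_centralizer_iff.mp c.2 _ ha'.1).symm)
  rwa [card_subgroupOf_of_le inf_le_right] at h1

end

section Stab

variable [Fact p.Prime] [Fintype (Subgroup.centralizer (P : Set G))]
  [Fintype (IrrCharacter (Subgroup.centralizer (P : Set G)))]

/-- The element `single u 1` of the group algebra of `C`, central. -/
noncomputable def singleCen (hPC : P ≤ Subgroup.centralizer (P : Set G)) {u : G} (hu : u ∈ P) :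
    Subalgebra.center ℂ (GA (Subgroup.centralizer (P : Set G))) :=
  ⟨single (⟨u, hPC hu⟩ : Subgroup.centralizer (P : Set G)) 1, by
    rw [Subalgebra.mem_center_iff]
    intro y
    have hc : ∀ c : Subgroup.centralizer (P : Set G),
        c * (⟨u, hPC hu⟩ : Subgroup.centralizer (P : Set G)) = ⟨u, hPC hu⟩ * c := by
      intro c
      apply Subtype.ext
      exact (Subgroup.mem_centralizer_iff.mp c.2 u hu).symm
    ext g
    rw [Cfsg.Agent.Lib.BP.Cj.coeff_mul_single', Cfsg.Agent.Lib.BP.Cj.coeff_single_mul']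
    congr 1
    have := hc (⟨u, hPC hu⟩⁻¹ * g * ⟨u, hPC hu⟩⁻¹)
    rw [← mul_left_inj (⟨u, hPC hu⟩ : Subgroup.centralizer (P : Set G)), inv_mul_cancel_right]
    rw [eq_comm]
    have h2 := hc ((⟨u, hPC hu⟩ : Subgroup.centralizer (P : Set G))⁻¹ * g)
    rw [h2, mul_inv_cancel_left]⟩

theorem stab_centralizes (hM : IsPModular p M) (hmax : IsMaximalBrauerPair p M B P e) [Fintype (IrrCharacter G)]
    [M.IsPrime] (hPC : P ≤ Subgroup.centralizer (P : Set G))
    (hinj : ∀ z ∈ localCenter M G, Jc M (restr (Subgroup.centralizer (P : Set G))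
      ((z * idem B : Subalgebra.center ℂ (GA G)) : GA G) * ((idem e : Subalgebra.center ℂ _) : GA _)) →
      Jc M ((z * idem B : Subalgebra.center ℂ (GA G)) : GA G))
    (hcard : finrank (Res M) (VE M (idem e)) ≤ finrank (Res M) (VE M (idem B)))
    {t u : G} (ht : t ∈ stabSub P e) (hu : u ∈ P) : t * u * t⁻¹ = u := by
  classical
  have hB := hmax.1.2.1
  have he := hmax.1.1.2
  have hEl := idem_mem_localCenter hB
  have hE₀l := idem_mem_localCenter he
  set zU := singleCen hPC hu with hzU
  have hzUl : zU ∈ localCenter M (Subgroup.centralizer (P : Set G)) :=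
    Rc.single _ memLocalRing_one
  have hy : red M ((zU * idem e : Subalgebra.center ℂ _) : GA _) ∈ VE M (idem e) :=
    Submodule.subset_span ⟨zU, hzUl, rfl⟩
  obtain ⟨z, hz, hzy⟩ := exists_preimage hEl hE₀l hinj hcard hy
  set X : Subalgebra.center ℂ (GA G) := z * idem B with hX
  have hXl : X ∈ localCenter M G := Subring.mul_mem _ hz hEl
  have hr1 : Rc M (restr (Subgroup.centralizer (P : Set G)) (X : GA G)) := Rc.restr _ (Rc.of_localCenter hXl)
  have hr0 : Rc M ((idem e : Subalgebra.center ℂ _) : GA (Subgroup.centralizer (P : Set G))) :=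
    Rc.of_localCenter hE₀l
  have hJ0 : Jc M ((zU : GA _) * ((idem e : Subalgebra.center ℂ _) : GA _) -
      restr (Subgroup.centralizer (P : Set G)) (X : GA G) * ((idem e : Subalgebra.center ℂ _) : GA _)) := by
    rw [← red_mul hr1 hr0] at hzy
    have hc : Rc M ((zU : GA _) * ((idem e : Subalgebra.center ℂ _) : GA (Subgroup.centralizer (P : Set G)))) :=
      (Rc.of_localCenter hzUl).mul hr0
    rw [← red_eq_zero_iff (hc.sub (hr1.mul hr0)), red_sub hc (hr1.mul hr0)]
    have e1 : red M ((zU : GA _) * ((idem e : Subalgebra.center ℂ _) : GA (Subgroup.centralizer (P : Set G)))) =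
        red M ((zU * idem e : Subalgebra.center ℂ _) : GA _) := rfl
    rw [e1, hzy, sub_self]
  -- transport to `G`
  set x : GA G := subIdem (Subgroup.centralizer (P : Set G)) e with hx
  have hJ1 : Jc M (single u 1 * x - res (Subgroup.centralizer (P : Set G) : Subgroup G) (X : GA G) * x) := by
    have h2 := Jc.incl (Subgroup.centralizer (P : Set G)) hJ0
    have h3 : incl (Subgroup.centralizer (P : Set G)) ((zU : GA _) : GA (Subgroup.centralizer (P : Set G))) =
        single u 1 := by
      ext g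
      by_cases hg : g ∈ Subgroup.centralizer (P : Set G)
      · rw [coeff_incl_of_mem _ _ hg]
        change (single (⟨u, hPC hu⟩ : Subgroup.centralizer (P : Set G)) (1 : ℂ) :
          GA (Subgroup.centralizer (P : Set G))).coeff ⟨g, hg⟩ = _
        rw [coeff_single, coeff_single, Finsupp.single_apply, Finsupp.single_apply]
        simp only [Subtype.mk.injEq]
      · rw [coeff_incl_of_notMem _ _ hg, coeff_single, Finsupp.single_apply, if_neg]
        rintro rfl
        exact hg (hPC hu)
    have h4 : Jc M (incl (Subgroup.centralizer (P : Set G)) ((zU : GA _) : GA (Subgroup.centralizer (P : Set G))) *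
        incl (Subgroup.centralizer (P : Set G)) ((idem e : Subalgebra.center ℂ _) : GA _) -
        incl (Subgroup.centralizer (P : Set G)) (restr (Subgroup.centralizer (P : Set G)) (X : GA G)) *
        incl (Subgroup.centralizer (P : Set G)) ((idem e : Subalgebra.center ℂ _) : GA _)) := by
      intro g
      have h5 := h2 g
      by_cases hg : g ∈ Subgroup.centralizer (P : Set G)
      · rw [coeff_incl_of_mem _ _ hg, coeff_sub'] at h5
        rw [coeff_sub', ← incl_mul, ← incl_mul, coeff_incl_of_mem _ _ hg, coeff_incl_of_mem _ _ hg]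
        exact h5
      · rw [coeff_sub', ← incl_mul, ← incl_mul, coeff_incl_of_notMem _ _ hg, coeff_incl_of_notMem _ _ hg, sub_zero]
        exact memLocalIdeal_zero
    rw [h3, ← res_eq_incl_restr] at h4
    exact h4
  -- conjugation by `t`
  have hTinv : QInv (stabSub P e) x := qinv_subIdem_of_stable (M := M) _ he fun v hv => hv.2
  have hcx : cj t x = x := cj_of_qInv hTinv ht
  have hcres : cj t (res (Subgroup.centralizer (P : Set G) : Subgroup G) (X : GA G)) =
      res (Subgroup.centralizer (P : Set G) : Subgroup G) (X : GA G) := by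
    have hqN' := mem_normalizer_centralizer ht.1
    ext g
    rw [coeff_cj]
    by_cases hg : g ∈ Subgroup.centralizer (P : Set G)
    · have h1 : t⁻¹ * g * t ∈ Subgroup.centralizer (P : Set G) := by
        have h2 := (Subgroup.mem_normalizer_iff.mp (Subgroup.inv_mem _ hqN') g).mp hg
        simpa using h2
      rw [coeff_res_of_mem _ hg, coeff_res_of_mem _ h1]
      have := isCentral_of_mem X g t⁻¹
      simpa using this
    · have h1 : t⁻¹ * g * t ∉ Subgroup.centralizer (P : Set G) := by
        intro h2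
        apply hg
        exact (Subgroup.mem_normalizer_iff.mp (Subgroup.inv_mem _ hqN') g).mpr (by simpa using h2)
      rw [coeff_res_of_notMem _ hg, coeff_res_of_notMem _ h1]
  have hcu : cj t (single u 1 : GA G) = single (t * u * t⁻¹) 1 := by
    rw [cj, single_mul_single, single_mul_single]
    simp
  have hJ2 : Jc M (single (t * u * t⁻¹) 1 * x - res (Subgroup.centralizer (P : Set G) : Subgroup G) (X : GA G) * x) := by
    have h2 := jc_cj hJ1 t
    rw [cj_sub, cj_mul, cj_mul, hcx, hcres, hcu] at h2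
    exact h2
  have hJ3 : Jc M ((single (u⁻¹ * (t * u * t⁻¹)) 1 - 1) * x) := by
    have h2 := (hJ2.sub hJ1)
    have h3 := Rc.mul_Jc (Rc.single u⁻¹ (memLocalRing_one (M := M))) h2
    have e1 : (single u⁻¹ 1 : GA G) * (single (t * u * t⁻¹) 1 * x -
        res (Subgroup.centralizer (P : Set G) : Subgroup G) (X : GA G) * x -
        (single u 1 * x - res (Subgroup.centralizer (P : Set G) : Subgroup G) (X : GA G) * x)) =
        (single (u⁻¹ * (t * u * t⁻¹)) 1 - 1) * x := by
      have e2 : (single u⁻¹ 1 : GA G) * single u 1 = 1 := single_inv_mul_single u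
      have e3 : (single u⁻¹ 1 : GA G) * single (t * u * t⁻¹) 1 = single (u⁻¹ * (t * u * t⁻¹)) 1 := by
        rw [single_mul_single, one_mul]
      calc (single u⁻¹ 1 : GA G) * (single (t * u * t⁻¹) 1 * x -
            res (Subgroup.centralizer (P : Set G) : Subgroup G) (X : GA G) * x -
            (single u 1 * x - res (Subgroup.centralizer (P : Set G) : Subgroup G) (X : GA G) * x))
          = ((single u⁻¹ 1 : GA G) * single (t * u * t⁻¹) 1 - (single u⁻¹ 1 : GA G) * single u 1) * x := by
            noncomm_ring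
        _ = _ := by rw [e2, e3]
    rw [e1] at h3
    exact h3
  -- the element
  have hmemP : t * u * t⁻¹ ∈ P := (Subgroup.mem_normalizer_iff.mp ht.1 u).mp hu
  have hwP : u⁻¹ * (t * u * t⁻¹) ∈ P := P.mul_mem (P.inv_mem hu) hmemP
  have hw := eq_one_of_jc hM (C := Subgroup.centralizer (P : Set G)) (hPC hwP)
    (fun c hc => (Subgroup.mem_centralizer_iff.mp hc _ hwP))
    (by
      obtain ⟨k, hk⟩ := (IsPGroup.iff_orderOf.mp hmax.1.1.1) ⟨_, hwP⟩
      exact ⟨k, by rwa [Subgroup.orderOf_mk] at hk⟩)
    (subIdem_mul_self _ e) (rc_subIdem _ he) (fun g hg => coeff_subIdem_of_notMem _ e hg)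
    (Cfsg.Agent.Lib.BlockH.StabBlock.subIdem_ne_zero _ (isPBlock_nonempty he)) hJ3
  have h6 : t * u * t⁻¹ = u := by
    have h7 := mul_left_cancel (a := u⁻¹) (b := t * u * t⁻¹) (c := u) (by rw [hw, inv_mul_cancel])
    exact h7
  exact h6

end Stab

section Main

variable [Fact p.Prime] [Fintype (IrrCharacter G)]

/-- **The main theorem.** -/
theorem core (hM : IsPModular p M) (hmax : IsMaximalBrauerPair p M B P e) {D : ℕ}
    (hdeg : ∀ χ ∈ B, charDegree (χ : G → ℂ) = D) [M.IsPrime] {Z : GA G → Subalgebra.center ℂ (GA G)}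
    (hZ1 : ∀ y, Rc M y → Z y ∈ localCenter M G) (hZ2 : ∀ y, Z y * idem B = Z y)
    (hZ3 : ∀ χ ∈ B, ∀ y, omegaHom χ (Z y) = lin (χ : G → ℂ) y) :
    (∀ x ∈ P, ∀ y ∈ P, x * y = y * x) ∧ Nat.card B = Nat.card P ∧ IsNilpotentBlock p M B := by
  classical
  letI : Fintype (Subgroup.centralizer (P : Set G)) := Fintype.ofFinite _
  haveI := finite_irrCharacter (G := Subgroup.centralizer (P : Set G))
  letI : Fintype (IrrCharacter (Subgroup.centralizer (P : Set G))) := Fintype.ofFinite _
  have hp : p.Prime := Fact.out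
  have hB := hmax.1.2.1
  have he := hmax.1.1.2
  obtain ⟨χ₀, hχ₀⟩ := isPBlock_nonempty hB
  have hD0n : D ≠ 0 := by
    rw [← hdeg χ₀ hχ₀]
    exact (charDegree_pos χ₀.2).ne'
  have hD0 : (D : ℂ) ≠ 0 := Nat.cast_ne_zero.mpr hD0n
  have hD1 : ∀ χ ∈ B, (χ : G → ℂ) 1 = (D : ℂ) := fun χ hχ => by
    rw [← hdeg χ hχ, charDegree_natCast (isCharacter_of_isIrrCharacter χ.2)]
  have hDdvd : D ∣ Nat.card G := hdeg χ₀ hχ₀ ▸ charDegree_dvd_card χ₀.2
  have hdp := isDefectGroup_of_isMaximal hM hmax
  obtain ⟨g₀, hdc, hs⟩ := isDefectGroup_isSylowIn hdp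
  have hg₀ : g₀ ∈ Subgroup.centralizer (P : Set G) := by
    rw [Subgroup.mem_centralizer_iff]
    intro u hu
    have := hs.le hu
    rw [Subgroup.mem_centralizer_singleton_iff] at this
    exact this
  have hκ : MemLocalRing M (((Subgroup.centralizer ({g₀} : Set G)).index : ℂ) / (D : ℂ)) := by
    have hi := (Subgroup.centralizer ({g₀} : Set G)).index_mul_card
    have hi0 : (Subgroup.centralizer ({g₀} : Set G)).index ≠ 0 := Subgroup.index_ne_zero_of_finite
    refine memLocalRing_div hM hi0 hD0n ?_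
    have hc1 := hs.card_eq
    have hc2 := card_eq_pow_blockDefect hM hB hdp
    rw [blockDefect_of_same (isPBlock_nonempty hB) hdeg, hc1] at hc2
    have hc3 := Nat.pow_right_injective hp.two_le hc2
    have hf : (Nat.card G).factorization p = (Subgroup.centralizer ({g₀} : Set G)).index.factorization p +
        (Nat.card (Subgroup.centralizer ({g₀} : Set G))).factorization p := by
      rw [← hi, Nat.factorization_mul hi0 Nat.card_pos.ne']
      rfl
    have hle : D.factorization p ≤ (Nat.card G).factorization p :=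
      (Nat.factorization_le_iff_dvd hD0n Nat.card_pos.ne').mpr hDdvd p
    omega
  have hEl := idem_mem_localCenter hB
  have hE₀l := idem_mem_localCenter he
  have hinj : ∀ z ∈ localCenter M G, Jc M (restr (Subgroup.centralizer (P : Set G))
      ((z * idem B : Subalgebra.center ℂ (GA G)) : GA G) * ((idem e : Subalgebra.center ℂ _) : GA _)) →
      Jc M ((z * idem B : Subalgebra.center ℂ (GA G)) : GA G) := by
    intro z hz hJ
    have hze : (z * idem B) * idem B = z * idem B := by
      rw [mul_assoc, idem_mul_self]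
    refine jc_of_res_mul hM hmax hD0 hD1 hZ1 hZ2 hZ3 hg₀ hdc hκ (Subring.mul_mem _ hz hEl) hze ?_
    have h1 := Jc.incl (Subgroup.centralizer (P : Set G)) hJ
    rw [incl_mul, ← res_eq_incl_restr] at h1
    exact h1
  have h1 := card_le_finrank_VE hEl
  have h2 := finrank_VE_le_of_inj hEl hE₀l hinj
  have h3 := finrank_VE_le hE₀l
  have h4 := card_e_le hM hmax
  have h5 : Nat.card (P ⊓ Subgroup.centralizer (P : Set G) : Subgroup G) ≤ Nat.card P :=
    Subgroup.card_le_of_le inf_le_left
  have h6 : Nat.card P ≤ Nat.card B := by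
    have h7 := card_defect_dvd hM hB hdp hdeg
    have : Nonempty B := (isPBlock_nonempty hB).to_subtype
    exact Nat.le_of_dvd Nat.card_pos h7
  have hPC : P ≤ Subgroup.centralizer (P : Set G) := by
    have h7 : (P ⊓ Subgroup.centralizer (P : Set G) : Subgroup G) = P :=
      Subgroup.eq_of_le_of_card_ge inf_le_left (by omega)
    exact inf_eq_left.mp h7
  have hab : ∀ x ∈ P, ∀ y ∈ P, x * y = y * x := fun x hx y hy =>
    Subgroup.mem_centralizer_iff.mp (hPC hy) x hx
  refine ⟨hab, by omega, (s4687 hM hmax hab).mpr fun x hxN hxS => ?_⟩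
  rw [Subgroup.mem_centralizer_iff]
  intro u hu
  have h7 := stab_centralizes hM hmax hPC hinj (by omega) (⟨hxN, hxS⟩ : x ∈ stabSub P e) hu
  calc u * x = (x * u * x⁻¹) * x := by rw [h7]
    _ = x * u := by group

end Main

end Cfsg.Agent.Lib.BK.Core4
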