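import Mathlib
import Cfsg.Agent.Lib.BK.Dim
import Cfsg.Agent.Lib.BP.KS

/-!
# Trace forms attached to isomorphism classes of primitive idempotents

`trC M C L` for an isomorphism closed set `C` of primitive idempotents and a primitive decomposition `L` of `1` in
the ring of elements with local coefficients: it is symmetric and scalar-linear, so it comes from a class function
with values in the residue field.  Its value at a primitive idempotent `i` is `1` if `C i` and `0` otherwise.
-/

set_option autoImplicit false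
set_option linter.unusedSectionVars false
set_option linter.style.haveILetI false

namespace Cfsg.Agent.Lib.BK.Trc

open Cfsg MonoidAlgebra Module
open Cfsg.Agent.Lib.Blocks.Local Cfsg.Agent.Lib.Blocks.Central Cfsg.Agent.Lib.Blocks.Brauer
open Cfsg.Agent.Lib.BlockAlg Cfsg.Agent.Lib.Blk89.BlockPow
open Cfsg.Agent.Lib.BP.Fit Cfsg.Agent.Lib.BP.Corner Cfsg.Agent.Lib.BP.KS

universe u

variable {G : Type u} [Group G] [Fintype G] {M : Ideal AlgInt} [hMp : M.IsPrime]
variable {S : Subring (GA G)}

theorem isOrder_rcS : IsOrder M (RcS M G) := ⟨fun _ h => h, fun _ hc => rc_smul_one hc⟩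

theorem piOf_smul (hS : IsOrder M S) {l y : GA G} (hl : IsPrim S l) (hy : y ∈ S) (hyi : Cfsg.Agent.Lib.BP.Corner.InC l y) {c : ℂ}
    (hc : MemLocalRing M c) : piOf M l (c • y) = r M c * piOf M l y := by
  have h1 : piOf M l (c • l) = r M c := by
    refine piOf_eq hS hl (hS.smul hc hl.mem) ((InC.self hl.idem).smul _) hc ?_
    rw [sub_self]
    exact Nil.of_Jc Jc.zero
  have e : c • y = (c • l) * y := by rw [smul_mul_assoc, hyi.1]
  rw [e, piOf_mul hS hl (hS.smul hc hl.mem) ((InC.self hl.idem).smul _) hy hyi, h1]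

variable {C : GA G → Prop} {L : Finset (GA G)}

theorem trC_smul (hS : IsOrder M S) (hL : ∀ l ∈ L, IsPrim S l) {a : GA G} (ha : a ∈ S) {c : ℂ}
    (hc : MemLocalRing M c) : trC M C L (c • a) = r M c * trC M C L a := by
  classical
  simp only [trC]
  rw [Finset.mul_sum]
  refine Finset.sum_congr rfl fun l hl => ?_
  have hl' := hL l (Finset.mem_filter.mp hl).1
  have e : l * (c • a) * l = c • (l * a * l) := by rw [mul_smul_comm, smul_mul_assoc]
  rw [e, piOf_smul hS hl' (corner_mem hl' ha) (corner_inC hl') hc]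

/-- Symmetry of the trace form. -/
theorem trC_comm (hS : IsOrder M S) (hL : IsDec S 1 L)
    (hC : ∀ l l', IsPrim S l → IsPrim S l' → Iso S l l' → (C l ↔ C l')) {a b : GA G} (ha : a ∈ S) (hb : b ∈ S) :
    trC M C L (a * b) = trC M C L (b * a) := by
  classical
  have hprim := hL.prim
  let T : GA G → GA G → Res M := fun l l' => piOf M l ((l * a * l') * (l' * b * l))
  have hA : ∀ l ∈ L, ∀ l' ∈ L, ∀ c ∈ S, l * c * l' ∈ S := fun l hl l' hl' c hc =>
    S.mul_mem (S.mul_mem (hprim l hl).mem hc) (hprim l' hl').mem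
  have hA1 : ∀ l ∈ L, ∀ c l' : GA G, l * (l * c * l') = l * c * l' := fun l hl c l' => by
    rw [← mul_assoc, ← mul_assoc, (hprim l hl).idem]
  have hA2 : ∀ l' ∈ L, ∀ c l : GA G, (l * c * l') * l' = l * c * l' := fun l' hl' c l => by
    rw [mul_assoc, (hprim l' hl').idem]
  have hswap : ∀ l ∈ L, ∀ l' ∈ L, T l l' = piOf M l' ((l' * b * l) * (l * a * l')) := by
    intro l hl l' hl'
    exact piOf_swap hS (hprim l hl) (hprim l' hl') (hA l hl l' hl' a ha) (hA1 l hl a l') (hA2 l' hl' a l)
      (hA l' hl' l hl b hb) (hA1 l' hl' b l) (hA2 l hl b l')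
  have hvan : ∀ l ∈ L, ∀ l' ∈ L, ¬ Iso S l l' → T l l' = 0 := by
    intro l hl l' hl' hn
    refine piOf_of_nil hS (hprim l hl) (S.mul_mem (hA l hl l' hl' a ha) (hA l' hl' l hl b hb))
      ⟨by rw [← mul_assoc, hA1 l hl a l'], by rw [mul_assoc, hA2 l hl b l']⟩ ?_
    by_contra hnil
    exact hn (iso_of_not_nil hS (hprim l hl) (hprim l' hl') (hA l hl l' hl' a ha) (hA1 l hl a l')
      (hA2 l' hl' a l) (hA l' hl' l hl b hb) (hA1 l' hl' b l) (hA2 l hl b l') hnil)
  have hex : ∀ (c d : GA G), ∀ l ∈ L, l * (c * d) * l = ∑ l' ∈ L, (l * c * l') * (l' * d * l) := by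
    intro c d l hl
    have e : ∀ l' ∈ L, (l * c * l') * (l' * d * l) = l * c * l' * d * l := by
      intro l' hl'
      calc (l * c * l') * (l' * d * l) = (l * c) * (l' * l') * d * l := by noncomm_ring
        _ = _ := by rw [(hprim l' hl').idem]
    rw [Finset.sum_congr rfl e]
    have e2 : ∑ l' ∈ L, l * c * l' * d * l = l * c * (∑ l' ∈ L, l') * d * l := by
      rw [Finset.mul_sum, Finset.sum_mul, Finset.sum_mul]
    rw [e2, hL.sum, mul_one, mul_assoc l c d]
  have e1 : trC M C L (a * b) = ∑ l ∈ L.filter C, ∑ l' ∈ L.filter C, T l l' := by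
    rw [trC]
    refine Finset.sum_congr rfl fun l hl => ?_
    have hlL := (Finset.mem_filter.mp hl).1
    have hlC := (Finset.mem_filter.mp hl).2
    rw [hex a b l hlL, piOf_sum hS (hprim l hlL) _ _
      (fun l' hl' => S.mul_mem (hA l hlL l' hl' a ha) (hA l' hl' l hlL b hb))
      (fun l' hl' => ⟨by rw [← mul_assoc, hA1 l hlL a l'], by rw [mul_assoc, hA2 l hlL b l']⟩)]
    rw [Finset.sum_filter]
    refine Finset.sum_congr rfl fun l' hl' => ?_
    split_ifs with hc
    · rfl
    · apply hvan l hlL l' hl'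
      intro hiso
      exact hc ((hC l l' (hprim l hlL) (hprim l' hl') hiso).mp hlC)
  have e2 : trC M C L (b * a) = ∑ l' ∈ L.filter C, ∑ l ∈ L.filter C, T l l' := by
    rw [trC]
    refine Finset.sum_congr rfl fun l' hl' => ?_
    have hlL' := (Finset.mem_filter.mp hl').1
    have hlC := (Finset.mem_filter.mp hl').2
    rw [hex b a l' hlL', piOf_sum hS (hprim l' hlL') _ _
      (fun l hl => S.mul_mem (hA l' hlL' l hl b hb) (hA l hl l' hlL' a ha))
      (fun l hl => ⟨by rw [← mul_assoc, hA1 l' hlL' b l], by rw [mul_assoc, hA2 l' hlL' a l]⟩)]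
    rw [Finset.sum_filter]
    refine Finset.sum_congr rfl fun l hl => ?_
    split_ifs with hc
    · exact (hswap l hl l' hlL').symm
    · have hn : ¬ Iso S l l' := by
        intro hiso
        exact hc ((hC l l' (hprim l hl) (hprim l' hlL') hiso).mpr hlC)
      rw [← hswap l hl l' hlL', hvan l hl l' hlL' hn]
  rw [e1, e2, Finset.sum_comm]

/-- The value at a primitive idempotent. -/
theorem trC_of_prim (hS : IsOrder M S) (hL : IsDec S 1 L)
    (hC : ∀ l l', IsPrim S l → IsPrim S l' → Iso S l l' → (C l ↔ C l')) {i : GA G} (hi : IsPrim S i)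
    [Decidable (C i)] : trC M C L i = if C i then 1 else 0 := by
  classical
  have hc : 1 - i ∈ S := S.sub_mem S.one_mem hi.mem
  have hcc : (1 - i) * (1 - i) = 1 - i := by
    rw [sub_mul, mul_sub, mul_sub, one_mul, one_mul, mul_one, hi.idem]
    abel
  obtain ⟨L₂, h1, h2, h3⟩ := exists_prim_decomp hS hc hcc
  have hL₂ : IsDec S (1 - i) L₂ := ⟨h1, h2, h3⟩
  have hli : ∀ l ∈ L₂, l * i = 0 := by
    intro l hl
    have := hL₂.mul_right hl
    rw [mul_sub, mul_one, sub_eq_self] at this
    exact this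
  have hil : ∀ l ∈ L₂, i * l = 0 := by
    intro l hl
    have := hL₂.mul_left hl
    rw [sub_mul, one_mul, sub_eq_self] at this
    exact this
  have hiL : i ∉ L₂ := by
    intro h
    exact hi.ne (by rw [← hi.idem]; exact hli i h)
  have hdec : IsDec S 1 (insert i L₂) := by
    refine ⟨?_, ?_, ?_⟩
    · intro l hl
      rcases Finset.mem_insert.mp hl with rfl | hl
      · exact hi
      · exact h1 l hl
    · intro l hl l' hl' hne
      rcases Finset.mem_insert.mp hl with h | hl <;> rcases Finset.mem_insert.mp hl' with h' | hl'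
      · exact absurd (h.trans h'.symm) hne
      · rw [h]; exact hil l' hl'
      · rw [h']; exact hli l hl
      · exact h2 l hl l' hl' hne
    · rw [Finset.sum_insert hiL, h3]
      abel
  rw [trC_indep hS hL hdec hC hi.mem, trC, Finset.sum_filter, Finset.sum_insert hiL]
  have h0 : ∑ l ∈ L₂, (if C l then piOf M l (l * i * l) else 0) = 0 := by
    refine Finset.sum_eq_zero fun l hl => ?_
    split_ifs
    · rw [hli l hl, zero_mul]
      exact piOf_of_nil hS (h1 l hl) S.zero_mem ⟨by simp, by simp⟩ (Nil.of_Jc Jc.zero)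
    · rfl
  rw [h0, add_zero]
  have e : i * i * i = i := by rw [hi.idem, hi.idem]
  rw [e, piOf_self hS hi]
  by_cases h : C i
  · simp [h]
  · simp [h]

/-- The expansion of the trace form over group elements. -/
theorem trC_eq_sum (hL : ∀ l ∈ L, IsPrim (RcS M G) l) {x : GA G} (hx : Rc M x) :
    trC M C L x = ∑ g : G, r M (x.coeff g) * trC M C L (single g 1) := by
  classical
  have hS := isOrder_rcS (M := M) (G := G)
  have hsing : ∀ g : G, (single g 1 : GA G) ∈ RcS M G := fun g => Rc.single g memLocalRing_one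
  have e : x = ∑ g : G, x.coeff g • (single g 1 : GA G) := eq_sum_single x
  conv_lhs => rw [e]
  rw [trC_sum hS hL _ _ (fun g _ => hS.smul (hx g) (hsing g))]
  exact Finset.sum_congr rfl fun g _ => trC_smul hS hL (hsing g) (hx g)

/-- **The lift of a trace form to a class function.** -/
theorem exists_lift (hL : IsDec (RcS M G) 1 L)
    (hC : ∀ l l', IsPrim (RcS M G) l → IsPrim (RcS M G) l' → Iso (RcS M G) l l' → (C l ↔ C l')) :
    ∃ f : G → ℂ, IsClassFunction G f ∧ (∀ g, MemLocalRing M (f g)) ∧
      ∀ x : GA G, Rc M x → MemLocalRing M (lin f x) ∧ r M (lin f x) = trC M C L x := by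
  classical
  have hS := isOrder_rcS (M := M) (G := G)
  choose s hs hrs using fun c : Res M => Cfsg.Agent.Lib.BK.Dim.exists_lift_res (M := M) c
  have hsing : ∀ g : G, (single g 1 : GA G) ∈ RcS M G := fun g => Rc.single g memLocalRing_one
  refine ⟨fun g => s (trC M C L (single g 1)), ?_, fun g => hs _, ?_⟩
  · intro g h
    have e1 : (single (h * g * h⁻¹) 1 : GA G) = single (h * g) 1 * single h⁻¹ 1 := by
      rw [single_mul_single, one_mul]
    have e2 : (single g 1 : GA G) = single h⁻¹ 1 * single (h * g) 1 := by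
      rw [single_mul_single, one_mul, inv_mul_cancel_left]
    have e3 : trC M C L (single (h * g * h⁻¹) 1) = trC M C L (single g 1) := by
      rw [e1, trC_comm hS hL hC (hsing _) (hsing _), ← e2]
    simp only [e3]
  · intro x hx
    have hl : MemLocalRing M (lin (fun g => s (trC M C L (single g 1))) x) :=
      memLocalRing_sum _ _ fun g _ => memLocalRing_mul (hx g) (hs _)
    refine ⟨hl, ?_⟩
    rw [trC_eq_sum hL.prim hx, lin_apply, r_sum _ _ fun g _ => memLocalRing_mul (hx g) (hs _)]
    refine Finset.sum_congr rfl fun g _ => ?_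
    rw [r_mul (hx g) (hs _), hrs]

end Cfsg.Agent.Lib.BK.Trc
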