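import Mathlib
import Cfsg.Agent.Lib.BK.Trc

/-!
# The dual basis of the isomorphism classes of primitive idempotents

For a primitive idempotent `i` of the ring of elements with local coefficients there is a class function `β` with
values `1` on the primitive idempotents isomorphic to `i`, and `0` on the other primitive idempotents.
-/

set_option autoImplicit false
set_option linter.unusedSectionVars false
set_option linter.style.haveILetI false

namespace Cfsg.Agent.Lib.BK.Dual

open Cfsg MonoidAlgebra Module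
open Cfsg.Agent.Lib.Blocks.Local Cfsg.Agent.Lib.Blocks.Central Cfsg.Agent.Lib.Blocks.Brauer
open Cfsg.Agent.Lib.BlockAlg Cfsg.Agent.Lib.Blk89.BlockPow
open Cfsg.Agent.Lib.BP.Fit Cfsg.Agent.Lib.BP.Corner Cfsg.Agent.Lib.BP.KS
open Cfsg.Agent.Lib.BK.Trc

universe u

variable {G : Type u} [Group G] [Fintype G] {M : Ideal AlgInt} [hMp : M.IsPrime]

theorem exists_iso_of_dec {L : Finset (GA G)} (hL : IsDec (RcS M G) 1 L) {i : GA G} (hi : IsPrim (RcS M G) i) :
    ∃ l ∈ L, Iso (RcS M G) i l := by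
  classical
  have hS := isOrder_rcS (M := M) (G := G)
  have hprim := hL.prim
  have hsum : ∑ l ∈ L, (i * l) * (l * i) = i := by
    have e : ∀ l ∈ L, (i * l) * (l * i) = i * l * i := by
      intro l hl
      calc (i * l) * (l * i) = i * (l * l) * i := by noncomm_ring
        _ = _ := by rw [(hprim l hl).idem]
    rw [Finset.sum_congr rfl e, ← Finset.sum_mul, ← Finset.mul_sum, hL.sum, mul_one, hi.idem]
  obtain ⟨l, hl, hn⟩ := exists_not_nil_of_sum hS hi L (fun l => (i * l) * (l * i))
    (fun l hl => (RcS M G).mul_mem ((RcS M G).mul_mem hi.mem (hprim l hl).mem)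
      ((RcS M G).mul_mem (hprim l hl).mem hi.mem))
    (fun l _ => ⟨by
      calc i * (i * l * (l * i)) = (i * i) * l * (l * i) := by noncomm_ring
        _ = _ := by rw [hi.idem], by
      calc i * l * (l * i) * i = i * l * (l * (i * i)) := by noncomm_ring
        _ = _ := by rw [hi.idem]⟩) hsum
  refine ⟨l, hl, iso_of_not_nil hS hi (hprim l hl) (a := i * l) (b := l * i)
    ((RcS M G).mul_mem hi.mem (hprim l hl).mem) ?_ ?_ ((RcS M G).mul_mem (hprim l hl).mem hi.mem) ?_ ?_ hn⟩
  · rw [← mul_assoc, hi.idem]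
  · rw [mul_assoc, (hprim l hl).idem]
  · rw [← mul_assoc, (hprim l hl).idem]
  · rw [mul_assoc, hi.idem]

theorem lin_eq_of_iso {β : G → ℂ} (hβ : IsClassFunction G β) {j j' : GA G} (h : Iso (RcS M G) j j') :
    lin β j = lin β j' := by
  obtain ⟨a, -, b, -, -, -, -, -, h5, h6⟩ := h
  rw [← h5, ← h6, lin_mul_comm hβ]

open Classical in
/-- **The dual class function of a primitive idempotent.** -/
theorem exists_beta {i : GA G} (hi : IsPrim (RcS M G) i) :
    ∃ β : G → ℂ, IsClassFunction G β ∧ ∀ j, IsPrim (RcS M G) j →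
      lin β j = if Iso (RcS M G) j i then 1 else 0 := by
  classical
  have hS := isOrder_rcS (M := M) (G := G)
  obtain ⟨L, h1, h2, h3⟩ := exists_prim_decomp hS (RcS M G).one_mem (one_mul (1 : GA G))
  have hL : IsDec (RcS M G) 1 L := ⟨h1, h2, h3⟩
  let st : Setoid L :=
    { r := fun a b => Iso (RcS M G) a.1 b.1
      iseqv := ⟨fun a => Iso.refl (h1 a.1 a.2).mem (h1 a.1 a.2).idem, fun h => h.symm, fun h h' => h.trans h'⟩ }
  let Q := Quotient st
  letI : Fintype Q := Fintype.ofFinite _
  let u : Q → GA G := fun q => ((Quotient.out q : L) : GA G)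
  have hu : ∀ q, IsPrim (RcS M G) (u q) := fun q => h1 _ (Quotient.out q : L).2
  have hu2 : ∀ q q' : Q, Iso (RcS M G) (u q) (u q') → q = q' := by
    intro q q' h
    rw [← Quotient.out_eq q, ← Quotient.out_eq q']
    exact Quotient.sound h
  have hu3 : ∀ j, IsPrim (RcS M G) j → ∃ q : Q, Iso (RcS M G) j (u q) := by
    intro j hj
    obtain ⟨l, hl, hiso⟩ := exists_iso_of_dec hL hj
    refine ⟨Quotient.mk st ⟨l, hl⟩, hiso.trans ?_⟩
    exact (Quotient.mk_out (s := st) ⟨l, hl⟩ : Iso (RcS M G) _ _).symm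
  have hf : ∀ s : Q, ∃ f : G → ℂ, IsClassFunction G f ∧ (∀ g, MemLocalRing M (f g)) ∧
      ∀ x : GA G, Rc M x → MemLocalRing M (lin f x) ∧
        r M (lin f x) = trC M (fun l => Iso (RcS M G) l (u s)) L x := fun s =>
    exists_lift hL (fun l l' _ _ h => ⟨fun h' => h.symm.trans h', fun h' => h.trans h'⟩)
  choose f hfc hfl hfx using hf
  have hrc : ∀ t : Q, Rc M (u t) := fun t => (hu t).mem
  let Y : Matrix Q Q ℂ := fun t s => lin (f s) (u t)
  let Yl : Matrix Q Q (localSubring M) := fun t s => ⟨lin (f s) (u t), (hfx s _ (hrc t)).1⟩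
  have hYl : (Ideal.Quotient.mk (localIdeal M)).mapMatrix Yl = 1 := by
    ext t s
    change Ideal.Quotient.mk (localIdeal M) (Yl t s) = (1 : Matrix Q Q (Res M)) t s
    rw [← r_of_mem]
    change r M (lin (f s) (u t)) = _
    rw [(hfx s _ (hrc t)).2]
    rw [trC_of_prim hS hL (fun l l' _ _ h => ⟨fun h' => h.symm.trans h', fun h' => h.trans h'⟩) (hu t)]
    by_cases hts : t = s
    · subst hts
      rw [if_pos (Iso.refl (hu t).mem (hu t).idem), Matrix.one_apply_eq]
    · rw [if_neg (fun h => hts (hu2 t s h)), Matrix.one_apply_ne hts]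
  have hdetl : Yl.det ≠ 0 := by
    intro h0
    have h1 := RingHom.map_det (Ideal.Quotient.mk (localIdeal M)) Yl
    rw [hYl, Matrix.det_one, h0, map_zero] at h1
    exact one_ne_zero h1.symm
  have hdet : Y.det ≠ 0 := by
    have h1 := RingHom.map_det (localSubring M).subtype Yl
    intro h0
    apply hdetl
    have e : (localSubring M).subtype.mapMatrix Yl = Y := by
      ext t s
      rfl
    rw [e, h0] at h1
    exact Subtype.ext h1
  have hunit : IsUnit Y.det := isUnit_iff_ne_zero.mpr hdet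
  have hYinv : Y * Y⁻¹ = 1 := Matrix.mul_nonsing_inv Y hunit
  obtain ⟨t₀, ht₀⟩ := hu3 i hi
  let β : G → ℂ := fun g => ∑ s, Y⁻¹ s t₀ * f s g
  have hβ : IsClassFunction G β := by
    intro g h
    exact Finset.sum_congr rfl fun s _ => by rw [hfc s g h]
  have hlin : ∀ x : GA G, lin β x = ∑ s, Y⁻¹ s t₀ * lin (f s) x := by
    intro x
    simp only [lin_apply, β, Finset.mul_sum]
    rw [Finset.sum_comm]
    exact Finset.sum_congr rfl fun s _ => Finset.sum_congr rfl fun g _ => by ring
  have hval : ∀ v : Q, lin β (u v) = if v = t₀ then 1 else 0 := by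
    intro v
    rw [hlin]
    have e : ∑ s, Y⁻¹ s t₀ * lin (f s) (u v) = (Y * Y⁻¹) v t₀ := by
      rw [Matrix.mul_apply]
      exact Finset.sum_congr rfl fun s _ => mul_comm _ _
    rw [e, hYinv, Matrix.one_apply]
  refine ⟨β, hβ, fun j hj => ?_⟩
  obtain ⟨q, hq⟩ := hu3 j hj
  rw [lin_eq_of_iso hβ hq, hval]
  by_cases hqt : q = t₀
  · subst hqt
    rw [if_pos rfl, if_pos (hq.trans ht₀.symm)]
  · rw [if_neg hqt, if_neg fun h => hqt (hu2 q t₀ (hq.symm.trans (h.trans ht₀)))]

open Classical in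
/-- The value of the dual class function on an idempotent. -/
theorem lin_idem_eq {β : G → ℂ} {i : GA G}
    (hβ : ∀ j, IsPrim (RcS M G) j → lin β j = if Iso (RcS M G) j i then 1 else 0) {y : GA G} {L : Finset (GA G)}
    (hL : IsDec (RcS M G) y L) : lin β y = ((L.filter fun l => Iso (RcS M G) l i).card : ℂ) := by
  rw [← hL.sum, map_sum, Finset.card_filter]
  push_cast
  exact Finset.sum_congr rfl fun l hl => by rw [hβ l (hL.prim l hl)]

theorem exists_nat_lin {β : G → ℂ} {i : GA G} 
    (hβ : ∀ j, IsPrim (RcS M G) j → lin β j = @ite _ (Iso (RcS M G) j i) (Classical.propDecidable _) 1 0) {y : GA G} (hy : Rc M y)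
    (hyy : y * y = y) : ∃ n : ℕ, lin β y = n := by
  classical
  have hS := isOrder_rcS (M := M) (G := G)
  obtain ⟨L, h1, h2, h3⟩ := exists_prim_decomp hS hy hyy
  exact ⟨_, lin_idem_eq (fun j hj => by rw [hβ j hj]) ⟨h1, h2, h3⟩⟩

end Cfsg.Agent.Lib.BK.Dual
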