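import Mathlib
import Cfsg.Agent.Lib.BK.Dual
import Cfsg.Agent.Lib.Star.Gen

/-!
# The Brauer lift of a class function

`hat p β g = β (g_{p'})`.  If `β` has natural values on idempotents with local coefficients then `hat p β` has
integral inner products with characters (Brauer's characterization), and the values of `β` and `hat p β` on idempotents
with local coefficients agree (Hattori).
-/

set_option autoImplicit false
set_option linter.unusedSectionVars false
set_option linter.style.haveILetI false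

namespace Cfsg.Agent.Lib.BK.Hat

open Cfsg MonoidAlgebra Cfsg.Agent.Lib.BlockAlg
open Cfsg.Agent.Lib.Blocks.Local Cfsg.Agent.Lib.Blocks.Central Cfsg.Agent.Lib.Blocks.Brauer
open Cfsg.Agent.Lib.Blocks.Induced Cfsg.Agent.Lib.Blk89.BlockPow Cfsg.Agent.Lib.Blocks.Weak
open Cfsg.Agent.Lib.BP.StarDefs Cfsg.Agent.Lib.Char.GenLattice Cfsg.Agent.Lib.Char.Basic
open Cfsg.Agent.Lib.BP.MIS Cfsg.Agent.Lib.Star
open scoped ComplexConjugate

universe u

variable {G : Type u} [Group G] [Fintype G] {M : Ideal AlgInt} {p : ℕ} [Fact p.Prime]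

/-- The lift of `β`: its value at `g` is the value of `β` at the `p'`-part of `g`. -/
noncomputable def hat (p : ℕ) [Fact p.Prime] (β : G → ℂ) (g : G) : ℂ := β (g * (pPt p g)⁻¹)

theorem isClassFunction_hat {β : G → ℂ} (hβ : IsClassFunction G β) : IsClassFunction G (hat p β) := by
  intro g h
  rw [hat, hat, pPt_conj]
  have e : h * g * h⁻¹ * (h * pPt p g * h⁻¹)⁻¹ = h * (g * (pPt p g)⁻¹) * h⁻¹ := by group
  rw [e, hβ]

theorem pPt_of_regular {c : G} (hc : ¬ p ∣ orderOf c) : pPt p c = 1 := by
  refine pPt_eq ⟨c, by simp, (Commute.one_left c), ⟨0, by simp⟩, hc⟩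

theorem hat_of_regular (β : G → ℂ) {c : G} (hc : ¬ p ∣ orderOf c) : hat p β c = β c := by
  rw [hat, pPt_of_regular hc]
  simp

variable [hMp : M.IsPrime]

/-- The values on idempotents with local coefficients. -/
theorem lin_hat (hM : IsPModular p M) {β : G → ℂ} (hβ : IsClassFunction G β) {y : GA G} (hy : y * y = y)
    (hrc : Rc M y) : lin (hat p β) y = lin β y := by
  have hτ : IsClassFunction G (fun g => hat p β g - β g) := by
    intro g h
    simp only
    rw [isClassFunction_hat hβ, hβ]
  have h0 := hattori hM hy hrc hτ (fun c hc => by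
    rw [hat_of_regular β hc, sub_self])
  have e : lin (fun g => hat p β g - β g) y = lin (hat p β) y - lin β y := by
    simp only [lin_apply, mul_sub]
    rw [Finset.sum_sub_distrib]
  rw [e, sub_eq_zero] at h0
  exact h0

/-- **The test on elementary subgroups.** -/
theorem test_hat (hM : IsPModular p M) {q : ℕ} (hq : q.Prime) {H : Type u} [Group H]
    [Fintype H] (hel : IsElementary q H) (ι : H →* G) (hι : Function.Injective ι) (lam : H →* ℂˣ)
    {β : G → ℂ} (hβ : ∀ y : GA G, Rc M y → y * y = y → ∃ n : ℕ, lin β y = n) :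
    classInner (fun h : H => hat p β (ι h)) (fun h => ((lam h : ℂˣ) : ℂ)) ∈ zSub := by
  classical
  have hp : p.Prime := Fact.out
  obtain ⟨e₀, m, hm, hN⟩ := Nat.exists_eq_pow_mul_and_not_dvd (n := Nat.card H) Nat.card_pos.ne' p hp.ne_one
  set n := p ^ e₀ with hn
  have hcop : m.Coprime n := ((Nat.Prime.coprime_iff_not_dvd hp).mpr hm).symm.pow_right _
  set a : ℕ := (Nat.chineseRemainder hcop 0 1 : ℕ) with ha
  have ha0 : a ≡ 0 [MOD m] := (Nat.chineseRemainder hcop 0 1).2.1
  have ha1 : a ≡ 1 [MOD n] := (Nat.chineseRemainder hcop 0 1).2.2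
  have hcard : Nat.card H ∣ m * n := by rw [hN, mul_comm]
  obtain ⟨f, hf⟩ := Cfsg.Agent.Lib.CharDeep.BrauerChar.exists_powHom hq hel hcard hcop ha0 ha1
  have hpow : ∀ x : H, x ^ (m * n) = 1 := by
    intro x
    have h1 := pow_card_eq_one' (x := x)
    rw [hN] at h1
    rwa [mul_comm]
  have hf2 : ∀ x : H, f (f x) = f x := by
    intro x
    rw [hf, hf, ← pow_mul]
    have h1 : a * a ≡ a [MOD m] := by
      have := ha0.mul ha0
      simpa using this.trans ha0.symm
    have h2 : a * a ≡ a [MOD n] := by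
      have := ha1.mul ha1
      simpa using this.trans ha1.symm
    have h3 := (Nat.modEq_and_modEq_iff_modEq_mul hcop).mp ⟨h1, h2⟩
    exact pow_eq_pow_iff_modEq.mpr (h3.of_dvd (orderOf_dvd_of_pow_eq_one (hpow x)))
  have hfn : ∀ x : H, (f x) ^ n = 1 := by
    intro x
    rw [hf]
    obtain ⟨c, hc⟩ := (Nat.modEq_zero_iff_dvd.mp ha0)
    rw [hc, ← pow_mul]
    have : m * c * n = (m * n) * c := by ring
    rw [this, pow_mul, hpow, one_pow]
  letI : Fintype f.ker := Fintype.ofFinite _
  letI : Fintype f.range := Fintype.ofFinite _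
  have hSp : ¬ p ∣ Nat.card f.ker := by
    intro h
    obtain ⟨s, hs⟩ := exists_prime_orderOf_dvd_card' p h
    have hs' : orderOf (s : H) = p := by rwa [Subgroup.orderOf_coe]
    have h1 : (s : H) ^ a = 1 := by
      rw [← hf]
      exact s.2
    have hpa : p ∣ a := hs' ▸ orderOf_dvd_of_pow_eq_one h1
    by_cases hpn : p ∣ n
    · have h2 := ha1.of_dvd hpn
      have h3 : a % p = 0 := Nat.mod_eq_zero_of_dvd hpa
      have h4 : 1 % p = 0 := by
        have : a % p = 1 % p := h2
        rw [← this, h3]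
      exact hp.one_lt.ne' (Nat.dvd_one.mp (Nat.dvd_of_mod_eq_zero h4))
    · have h2 : p ∣ m * n := by
        have h3 : p ∣ Nat.card H := by
          rw [← hs']
          exact orderOf_dvd_natCard (s : H)
        exact h3.trans hcard
      rcases (Nat.Prime.dvd_mul hp).mp h2 with h3 | h3
      · exact hm h3
      · exact hpn h3
  set ε : GA G := linIdem ι lam f.ker with hε
  have hεε : ε * ε = ε := linIdem_mul_self ι lam f.ker
  have hεR : Rc M ε := rc_linIdem ι lam f.ker hM hSp
  obtain ⟨c₁, hc₁⟩ := hβ ε hεR hεε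
  -- the second factor
  let lamR : f.range →* ℂˣ := lam.comp f.range.subtype
  obtain ⟨c₂, hc₂⟩ := Cfsg.Agent.Lib.Char.Ortho.exists_nat_classInner
    (Cfsg.Agent.Lib.CharDeep.LinearChar.isCharacter_of_hom (1 : f.range →* ℂˣ))
    (Cfsg.Agent.Lib.CharDeep.LinearChar.isCharacter_of_hom lamR)
  -- the decomposition
  let φ : f.ker × f.range ≃ H :=
    { toFun := fun t => (t.1 : H) * (t.2 : H)
      invFun := fun h => (⟨h * (f h)⁻¹, by
          change f (h * (f h)⁻¹) = 1
          rw [map_mul, map_inv, hf2, mul_inv_cancel]⟩, ⟨f h, ⟨h, rfl⟩⟩)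
      left_inv := by
        rintro ⟨⟨s, hs⟩, ⟨_, x, rfl⟩⟩
        have hs1 : f s = 1 := hs
        have e1 : f (s * f x) = f x := by rw [map_mul, hs1, one_mul, hf2]
        apply Prod.ext
        · apply Subtype.ext
          simp [e1]
        · apply Subtype.ext
          simp [e1]
      right_inv := by
        intro h
        simp }
  have hcardH : Nat.card H = Nat.card f.ker * Nat.card f.range := by
    rw [Nat.card_congr φ.symm, Nat.card_prod]
  have hcS : (Nat.card f.ker : ℂ) ≠ 0 := Nat.cast_ne_zero.mpr Nat.card_pos.ne'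
  have hcR : (Nat.card f.range : ℂ) ≠ 0 := Nat.cast_ne_zero.mpr Nat.card_pos.ne'
  -- the value of the lift
  have hhat : ∀ (s : f.ker) (r : f.range), hat p β (ι ((s : H) * (r : H))) = β (ι (s : H)) := by
    rintro ⟨s, hs⟩ ⟨_, x, rfl⟩
    have hs1 : f s = 1 := hs
    have hcomm : s * f x = f x * s := by
      have h1 : f (s * x * s⁻¹) = s * f x * s⁻¹ := by
        rw [hf, hf, conj_pow]
      rw [map_mul, map_mul, map_inv, hs1, one_mul, inv_one, mul_one] at h1
      have h2 : s * f x * s⁻¹ * s = f x * s := by rw [← h1]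
      rw [inv_mul_cancel_right] at h2
      exact h2
    simp only
    have hord : ∃ k : ℕ, orderOf (ι (f x)) = p ^ k := by
      have h1 : (ι (f x)) ^ n = 1 := by rw [← map_pow, hfn, map_one]
      obtain ⟨k, -, hk⟩ := (Nat.dvd_prime_pow hp).mp (orderOf_dvd_of_pow_eq_one h1)
      exact ⟨k, hk⟩
    have hreg : ¬ p ∣ orderOf (ι s) := by
      rw [orderOf_injective ι hι]
      intro h
      apply hSp
      have h3 : orderOf (⟨s, hs⟩ : f.ker) = orderOf s := Subgroup.orderOf_mk _ _
      rw [← h3] at h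
      exact h.trans (orderOf_dvd_natCard _)
    have e1 : ι (s * f x) = ι (f x) * ι s := by rw [hcomm, map_mul]
    have hc : Commute (ι s) (ι (f x)) := by
      change ι s * ι (f x) = ι (f x) * ι s
      rw [← map_mul, ← map_mul, hcomm]
    rw [hat, e1, pPt_mul hord hc hreg]
    congr 1
    rw [← e1, map_mul]
    group
  have h1 : lin β ε = (Nat.card f.ker : ℂ)⁻¹ * ∑ s : f.ker, conj ((lam s : ℂˣ) : ℂ) * β (ι s) := by
    have h2 := lin_linIdem_mul ι lam f.ker β 1
    have e : (single (1 : G) 1 : GA G) = 1 := rfl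
    rw [e, mul_one] at h2
    rw [h2]
    congr 1
    refine Fintype.sum_congr _ _ fun s => ?_
    rw [mul_one]
  have h2 : (c₂ : ℂ) = (Nat.card f.range : ℂ)⁻¹ * ∑ r : f.range, conj ((lam r : ℂˣ) : ℂ) := by
    rw [← hc₂, classInner]
    congr 1
    refine Fintype.sum_congr _ _ fun r => ?_
    simp [lamR]
  have hfinal : classInner (fun h : H => hat p β (ι h)) (fun h => ((lam h : ℂˣ) : ℂ)) = c₁ * c₂ := by
    rw [h2, ← hc₁, h1, classInner, hcardH, ← Equiv.sum_comp φ, Fintype.sum_prod_type]
    push_cast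
    rw [mul_inv, mul_mul_mul_comm, Finset.sum_mul_sum]
    congr 1
    refine Fintype.sum_congr _ _ fun s => Fintype.sum_congr _ _ fun r => ?_
    simp only [φ, Equiv.coe_fn_mk]
    rw [hhat s r, map_mul, Units.val_mul, map_mul]
    ring
  rw [hfinal]
  exact ⟨(c₁ * c₂ : ℤ), by simp⟩

/-- **The integrality of the lift.** -/
theorem coef_hat (hM : IsPModular p M) {β : G → ℂ} (hβc : IsClassFunction G β)
    (hβ : ∀ y : GA G, Rc M y → y * y = y → ∃ n : ℕ, lin β y = n) :
    Cfsg.Agent.Lib.CharDeep.BrauerChar.Coef zSub.toAddSubgroup G (hat p β) := by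
  classical
  have hfc := isClassFunction_hat (p := p) hβc
  refine Cfsg.Agent.Lib.CharDeep.BrauerChar.coef_of_elementary hfc ?_
  intro q E _ hq hel ψ hψ
  obtain ⟨H, μ, rfl⟩ := Cfsg.Agent.Lib.Char.Monomial.monomial_of_quasiElementary hq
    (Cfsg.Agent.Lib.Char.Brauer.isQuasiElementary_of_isElementary hel) ψ hψ
  letI : Fintype H := Fintype.ofFinite _
  have hclE : IsClassFunction E (fun g : E => hat p β g) := by
    intro g h
    exact hfc g h
  have h1 : classInner (fun g : E => hat p β g) (indFun H fun h => ((μ h : ℂˣ) : ℂ)) =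
      classInner (fun h : H => hat p β ((E.subtype.comp H.subtype) h)) (fun h => ((μ h : ℂˣ) : ℂ)) := by
    rw [← conj_classInner, Cfsg.Agent.Lib.Char.Induced.classInner_indFun_left H _ _ hclE, conj_classInner]
    rfl
  rw [h1]
  exact test_hat hM hq (Cfsg.Agent.Lib.Char.Brauer.IsElementary.subgroup hq hel H) _
    (by
      intro a b hab
      exact Subtype.ext (Subtype.ext hab)) μ hβ

end Cfsg.Agent.Lib.BK.Hat
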