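import Mathlib
import Cfsg.Agent.Lib.BK.Hat
import Cfsg.Agent.Lib.BK.Core4

/-!
# Blocks with characters of equal degree

If all irreducible characters of the block `B` have the same degree, then all primitive idempotents below `idem B`
are isomorphic, and take the value one at the characters of `B`.
-/

set_option autoImplicit false
set_option linter.unusedSectionVars false
set_option linter.style.haveILetI false

namespace Cfsg.Agent.Lib.BK.Equal

open Cfsg MonoidAlgebra Module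
open Cfsg.Agent.Lib.Blocks.Local Cfsg.Agent.Lib.Blocks.Central Cfsg.Agent.Lib.Blocks.Brauer
open Cfsg.Agent.Lib.BlockAlg Cfsg.Agent.Lib.Blk89.BlockPow
open Cfsg.Agent.Lib.BP.Fit Cfsg.Agent.Lib.BP.Corner Cfsg.Agent.Lib.BP.KS
open Cfsg.Agent.Lib.BK.Trc Cfsg.Agent.Lib.BK.Dual Cfsg.Agent.Lib.BK.Hat Cfsg.Agent.Lib.BK.Coef Cfsg.Agent.Lib.BK.HC
open Cfsg.Agent.Lib.Char.Basic Cfsg.Agent.Lib.Char.Degree Cfsg.Agent.Lib.Blocks.Weak
open scoped ComplexConjugate

universe u

variable {G : Type u} [Group G] [Fintype G] {M : Ideal AlgInt}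

/-! ### Traces of idempotents -/

/-- The trace of an idempotent is natural. -/
theorem exists_nat_lin_idem {χ : G → ℂ} (hχ : IsCharacter G χ) {y : GA G} (hy : y * y = y) :
    ∃ n : ℕ, lin χ y = n := by
  obtain ⟨n, ρ, rfl⟩ := hχ
  have hP : IsIdempotentElem (ρ.asAlgebraHom y) := by
    change ρ.asAlgebraHom y * ρ.asAlgebraHom y = _
    rw [← map_mul, hy]
  refine ⟨finrank ℂ (LinearMap.range (ρ.asAlgebraHom y)), ?_⟩
  have hp := LinearMap.IsIdempotentElem.isProj_range _ hP
  rw [← hp.trace, trace_asAlgebraHom]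

/-- Trace zero: the idempotent acts as zero. -/
theorem lin_mul_of_eq_zero {χ : G → ℂ} (hχ : IsCharacter G χ) {y : GA G} (hy : y * y = y) (h0 : lin χ y = 0)
    (x : GA G) : lin χ (x * y) = 0 := by
  obtain ⟨n, ρ, rfl⟩ := hχ
  have hP : IsIdempotentElem (ρ.asAlgebraHom y) := by
    change ρ.asAlgebraHom y * ρ.asAlgebraHom y = _
    rw [← map_mul, hy]
  have hp := LinearMap.IsIdempotentElem.isProj_range _ hP
  have h1 : (finrank ℂ (LinearMap.range (ρ.asAlgebraHom y)) : ℂ) = 0 := by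
    rw [← hp.trace, trace_asAlgebraHom]
    exact h0
  have h2 : finrank ℂ (LinearMap.range (ρ.asAlgebraHom y)) = 0 := by exact_mod_cast h1
  have h3 : ρ.asAlgebraHom y = 0 := by
    rw [Submodule.finrank_eq_zero] at h2
    exact LinearMap.range_eq_bot.mp h2
  rw [← trace_asAlgebraHom, map_mul, h3, mul_zero, map_zero]

/-- Full trace: the idempotent acts as one. -/
theorem lin_mul_of_eq_one {χ : G → ℂ} (hχ : IsCharacter G χ) {y : GA G} (hy : y * y = y) (h0 : lin χ y = χ 1)
    (x : GA G) : lin χ (x * y) = lin χ x := by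
  obtain ⟨n, ρ, rfl⟩ := hχ
  have hP : IsIdempotentElem (ρ.asAlgebraHom y) := by
    change ρ.asAlgebraHom y * ρ.asAlgebraHom y = _
    rw [← map_mul, hy]
  have hp := LinearMap.IsIdempotentElem.isProj_range _ hP
  have h1 : (finrank ℂ (LinearMap.range (ρ.asAlgebraHom y)) : ℂ) = (n : ℂ) := by
    rw [← hp.trace, trace_asAlgebraHom]
    have e : LinearMap.trace ℂ (Fin n → ℂ) (ρ 1) = (n : ℂ) := by
      rw [map_one, Module.End.one_eq_id, LinearMap.trace_id]
      simp
    rw [← e]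
    exact h0
  have h2 : finrank ℂ (LinearMap.range (ρ.asAlgebraHom y)) = n := by exact_mod_cast h1
  have h3 : LinearMap.range (ρ.asAlgebraHom y) = ⊤ := by
    apply Submodule.eq_top_of_finrank_eq
    simpa using h2
  have h4 : ρ.asAlgebraHom y = 1 := by
    refine LinearMap.ext fun v => ?_
    have hv : v ∈ LinearMap.range (ρ.asAlgebraHom y) := by rw [h3]; trivial
    exact hp.map_id v hv
  rw [← trace_asAlgebraHom, map_mul, h4, mul_one, trace_asAlgebraHom]

variable [Fintype (IrrCharacter G)]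

/-- An idempotent below `idem B` vanishes at characters outside of `B`, and a nonzero idempotent has a character
with nonzero value. -/
theorem exists_lin_ne {y : GA G} (hy : y * y = y) (hne : y ≠ 0) :
    ∃ χ : IrrCharacter G, lin (χ : G → ℂ) y ≠ 0 := by
  by_contra hcon
  push Not at hcon
  apply hne
  refine eq_zero_of_lin y fun χ x => ?_
  rw [lin_mul_comm (isClassFunction_of_isIrrCharacter χ.2)]
  exact lin_mul_of_eq_zero (isCharacter_of_isIrrCharacter χ.2) hy (hcon χ) x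

/-- The idempotent of a set of characters. -/
theorem eq_idem_of_traces {y : GA G} (hy : y * y = y) (A : Set (IrrCharacter G))
    (h1 : ∀ χ ∈ A, lin (χ : G → ℂ) y = (χ : G → ℂ) 1) (h0 : ∀ χ, χ ∉ A → lin (χ : G → ℂ) y = 0) :
    y = ((idem A : Subalgebra.center ℂ (GA G)) : GA G) := by
  classical
  rw [← sub_eq_zero]
  refine eq_zero_of_lin _ fun χ x => ?_
  rw [sub_mul, map_sub, lin_idem_mul, lin_mul_comm (isClassFunction_of_isIrrCharacter χ.2) y x]
  have hχ := isCharacter_of_isIrrCharacter χ.2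
  by_cases hA : χ ∈ A
  · rw [if_pos hA, lin_mul_of_eq_one hχ hy (h1 χ hA), sub_self]
  · rw [if_neg hA, lin_mul_of_eq_zero hχ hy (h0 χ hA), sub_zero]

/-- The value of a class function at the idempotent of `B`. -/
theorem lin_idem_eq_sum (B : Set (IrrCharacter G)) (f : G → ℂ) [DecidablePred (· ∈ B)] :
    lin f ((idem B : Subalgebra.center ℂ (GA G)) : GA G) =
      ∑ χ : IrrCharacter G, if χ ∈ B then (χ : G → ℂ) 1 * classInner f (χ : G → ℂ) else 0 := by
  classical
  simp only [lin_apply, coeff_idem, blockCoeff_eq_sum, classInner]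
  simp only [Finset.mul_sum, Finset.sum_mul]
  rw [Finset.sum_comm]
  refine Finset.sum_congr rfl fun χ _ => ?_
  by_cases hχ : χ ∈ B
  · simp only [if_pos hχ, Finset.mul_sum]
    refine Finset.sum_congr rfl fun g _ => ?_
    ring
  · simp [if_neg hχ]

variable [hMp : M.IsPrime] {p : ℕ} [Fact p.Prime] {B : Set (IrrCharacter G)}

/-- **Equal degrees give matrix units.** -/
theorem exists_hcData (hM : IsPModular p M) (hB : IsPBlock M B) {D : ℕ}
    (hdeg : ∀ χ ∈ B, charDegree (χ : G → ℂ) = D) :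
    ∃ (i : GA G) (s : Finset (GA G)) (u w : GA G → GA G), HCData M B i s u w := by
  classical
  have hS := isOrder_rcS (M := M) (G := G)
  have heB := idem_mem_localCenter hB
  set e : GA G := ((idem B : Subalgebra.center ℂ (GA G)) : GA G) with he
  have heR : e ∈ RcS M G := heB
  have hee : e * e = e := by
    have := idem_mul_self (G := G) B
    exact congrArg Subtype.val this
  obtain ⟨χ₀, hχ₀⟩ := isPBlock_nonempty hB
  have hD1 : (D : ℂ) = (χ₀ : G → ℂ) 1 := by
    rw [← hdeg χ₀ hχ₀, charDegree_natCast (isCharacter_of_isIrrCharacter χ₀.2)]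
  have hdeg' : ∀ χ ∈ B, (χ : G → ℂ) 1 = D := by
    intro χ hχ
    rw [← hdeg χ hχ, charDegree_natCast (isCharacter_of_isIrrCharacter χ.2)]
  have hDpos : 0 < D := by
    rw [← hdeg χ₀ hχ₀]
    exact charDegree_pos χ₀.2
  have hDne : (D : ℂ) ≠ 0 := Nat.cast_ne_zero.mpr hDpos.ne'
  -- the decomposition
  obtain ⟨L, h1, h2, h3⟩ := exists_prim_decomp hS heR hee
  have hL : IsDec (RcS M G) e L := ⟨h1, h2, h3⟩
  have hene : e ≠ 0 := by
    intro h0
    have := lin_idem_mul B χ₀ (1 : GA G)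
    rw [← he, h0, zero_mul, map_zero, if_pos hχ₀, lin_one] at this
    rw [← hD1] at this
    exact hDne this.symm
  have hLne : L.Nonempty := by
    by_contra hcon
    rw [Finset.not_nonempty_iff_eq_empty] at hcon
    rw [hcon, Finset.sum_empty] at h3
    exact hene h3.symm
  obtain ⟨l₀, hl₀⟩ := hLne
  have hprim₀ := h1 l₀ hl₀
  -- the dual function
  obtain ⟨β, hβc, hβ⟩ := exists_beta hprim₀
  have hnat : ∀ y : GA G, Rc M y → y * y = y → ∃ n : ℕ, lin β y = n := fun y hy hyy =>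
    exists_nat_lin (fun j hj => by rw [hβ j hj]) hy hyy
  have hcoef := coef_hat hM hβc hnat
  -- the multiplicity
  set L₀ := L.filter fun l => Iso (RcS M G) l l₀ with hL₀
  have hl₀L₀ : l₀ ∈ L₀ := Finset.mem_filter.mpr ⟨hl₀, Iso.refl hprim₀.mem hprim₀.idem⟩
  have hmult : lin (hat p β) e = (L₀.card : ℂ) := by
    rw [lin_hat hM hβc hee heB, lin_idem_eq hβ hL]
  have hint : ∃ q : ℤ, (L₀.card : ℂ) = D * q := by
    rw [← hmult, he, lin_idem_eq_sum]
    have e1 : ∀ χ : IrrCharacter G, (if χ ∈ B then (χ : G → ℂ) 1 * classInner (hat p β) (χ : G → ℂ) else 0) =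
        (D : ℂ) * if χ ∈ B then classInner (hat p β) (χ : G → ℂ) else 0 := by
      intro χ
      by_cases hχ : χ ∈ B
      · rw [if_pos hχ, if_pos hχ, hdeg' χ hχ]
      · rw [if_neg hχ, if_neg hχ, mul_zero]
    rw [Finset.sum_congr rfl fun χ _ => e1 χ, ← Finset.mul_sum]
    have hmem : (∑ χ : IrrCharacter G, if χ ∈ B then classInner (hat p β) (χ : G → ℂ) else 0) ∈
        Cfsg.Agent.Lib.Star.zSub := by
      refine Subring.sum_mem _ fun χ _ => ?_
      split_ifs
      · exact hcoef _ χ.2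
      · exact Subring.zero_mem _
    obtain ⟨q, hq⟩ := hmem
    refine ⟨q, ?_⟩
    rw [← hq]
    simp
  obtain ⟨q, hq⟩ := hint
  have hq' : (L₀.card : ℤ) = D * q := by exact_mod_cast hq
  have hcardpos : 0 < L₀.card := Finset.card_pos.mpr ⟨l₀, hl₀L₀⟩
  have hqpos : 0 < q := by
    by_contra hcon
    have h4 : (D : ℤ) * q ≤ 0 := mul_nonpos_of_nonneg_of_nonpos (by positivity) (not_lt.mp hcon)
    have h5 : (0 : ℤ) < L₀.card := by exact_mod_cast hcardpos
    omega
  -- the values at `l₀`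
  have hnatl : ∀ (χ : IrrCharacter G) (l : GA G), l * l = l → ∃ n : ℕ, lin (χ : G → ℂ) l = n := fun χ l hl =>
    exists_nat_lin_idem (isCharacter_of_isIrrCharacter χ.2) hl
  have hsame : ∀ (χ : IrrCharacter G), ∀ l ∈ L₀, lin (χ : G → ℂ) l = lin (χ : G → ℂ) l₀ := by
    intro χ l hl
    exact lin_eq_of_iso (isClassFunction_of_isIrrCharacter χ.2) (Finset.mem_filter.mp hl).2
  obtain ⟨c, hc⟩ : ∃ c : IrrCharacter G → ℕ, ∀ χ : IrrCharacter G, lin (χ : G → ℂ) l₀ = c χ :=
    ⟨fun χ' => (hnatl χ' l₀ hprim₀.idem).choose, fun χ' => (hnatl χ' l₀ hprim₀.idem).choose_spec⟩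
  have hinB : ∀ χ ∈ B, L₀.card * c χ ≤ D := by
    intro χ hχ
    have h4 : lin (χ : G → ℂ) e = D := by
      have := lin_idem_mul B χ (1 : GA G)
      rw [← he, mul_one, if_pos hχ, lin_one, hdeg' χ hχ] at this
      exact this
    obtain ⟨v, hv⟩ : ∃ v : GA G → ℕ, ∀ l ∈ L, lin (χ : G → ℂ) l = v l :=
      ⟨fun l => if h : l * l = l then (hnatl χ l h).choose else 0, fun l hl => by
        have h : l * l = l := (h1 l hl).idem
        simp only [dif_pos h]
        exact (hnatl χ l h).choose_spec⟩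
    have h5 : (D : ℂ) = ((∑ l ∈ L, v l : ℕ) : ℂ) := by
      rw [← h4, ← h3, map_sum]
      push_cast
      exact Finset.sum_congr rfl hv
    have h6 : D = ∑ l ∈ L, v l := by exact_mod_cast h5
    have h7 : L₀.card * c χ = ∑ l ∈ L₀, v l := by
      rw [Finset.card_eq_sum_ones, Finset.sum_mul]
      refine Finset.sum_congr rfl fun l hl => ?_
      have h8 : ((c χ : ℕ) : ℂ) = v l := by
        rw [← hc, ← hv l (Finset.mem_filter.mp hl).1, hsame χ l hl]
      have h9 : c χ = v l := by exact_mod_cast h8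
      rw [one_mul, h9]
    rw [h7, h6]
    exact Finset.sum_le_sum_of_subset (Finset.filter_subset _ _)
  -- the block idempotent below `l₀`
  have hq1 : ∀ χ ∈ B, c χ ≠ 0 → q = 1 ∧ c χ = 1 := by
    intro χ hχ hne
    have h4 := hinB χ hχ
    have h5 : (L₀.card : ℤ) * c χ ≤ D := by exact_mod_cast h4
    rw [hq'] at h5
    have hDz : (0 : ℤ) < D := by exact_mod_cast hDpos
    have h6 : q * (c χ : ℤ) ≤ 1 := by
      by_contra hcon
      have h7 : (2 : ℤ) ≤ q * c χ := by omega
      have h8 : (D : ℤ) * 2 ≤ D * (q * c χ) := mul_le_mul_of_nonneg_left h7 hDz.le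
      nlinarith
    have hcpos : (1 : ℤ) ≤ c χ := by
      have : 1 ≤ c χ := Nat.one_le_iff_ne_zero.mpr hne
      exact_mod_cast this
    have hq1 : (1 : ℤ) ≤ q := hqpos
    have h10 : q = 1 := by nlinarith
    have h11 : (c χ : ℤ) = 1 := by nlinarith
    exact ⟨h10, by exact_mod_cast h11⟩
  set e₀ : GA G := ∑ l ∈ L₀, l with he₀
  have hprimL₀ : ∀ l ∈ L₀, IsPrim (RcS M G) l := fun l hl => h1 l (Finset.mem_filter.mp hl).1
  have he₀e₀ : e₀ * e₀ = e₀ := by
    rw [he₀, Finset.sum_mul]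
    refine Finset.sum_congr rfl fun l hl => ?_
    rw [Finset.mul_sum, Finset.sum_eq_single l]
    · exact (hprimL₀ l hl).idem
    · intro b hb hne
      exact h2 l (Finset.mem_filter.mp hl).1 b (Finset.mem_filter.mp hb).1 (Ne.symm hne)
    · intro h
      exact absurd hl h
  have hlinL₀ : ∀ χ : IrrCharacter G, lin (χ : G → ℂ) e₀ = (L₀.card : ℂ) * c χ := by
    intro χ
    rw [he₀, map_sum, Finset.sum_congr rfl fun l hl => by rw [hsame χ l hl, hc χ], Finset.sum_const,
      nsmul_eq_mul]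
  have hl₀e : ∀ l ∈ L, e * l = l := fun l hl => hL.mul_left hl
  -- characters outside of `B`
  have hout : ∀ χ : IrrCharacter G, χ ∉ B → c χ = 0 := by
    intro χ hχ
    have h4 := lin_idem_mul B χ l₀
    rw [← he, hl₀e l₀ hl₀, if_neg hχ, hc χ] at h4
    exact_mod_cast h4
  set A : Set (IrrCharacter G) := {χ | χ ∈ B ∧ c χ ≠ 0} with hA
  have hidemA : e₀ = ((idem A : Subalgebra.center ℂ (GA G)) : GA G) := by
    refine eq_idem_of_traces he₀e₀ A ?_ ?_
    · rintro χ ⟨hχ, hne⟩
      obtain ⟨h4, h5⟩ := hq1 χ hχ hne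
      rw [hlinL₀, hdeg' χ hχ, h5]
      have : (L₀.card : ℂ) = D := by rw [hq, h4]; simp
      rw [this]
      simp
    · intro χ hχA
      have h4 : c χ = 0 := by
        by_contra hne
        by_cases hχB : χ ∈ B
        · exact hχA ⟨hχB, hne⟩
        · exact hne (hout χ hχB)
      rw [hlinL₀, h4]
      simp
  have hmemA : idem A ∈ localCenter M G := by
    have h4 : e₀ ∈ RcS M G := (RcS M G).sum_mem fun l hl => (hprimL₀ l hl).mem
    have h5 : ((idem A : Subalgebra.center ℂ (GA G)) : GA G) ∈ RcS M G := by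
      rw [← hidemA]
      exact h4
    exact h5
  obtain ⟨χ₁, hχ₁⟩ := exists_lin_ne hprim₀.idem hprim₀.ne
  have hc₁ : c χ₁ ≠ 0 := by
    intro h4
    apply hχ₁
    rw [hc, h4]
    simp
  have hχ₁B : χ₁ ∈ B := by
    by_contra hn
    exact hc₁ (hout χ₁ hn)
  have hsub : B ⊆ A := by
    have h4 := blockOf_subset_of_idem_mem hmemA (χ := χ₁) ⟨hχ₁B, hc₁⟩
    obtain ⟨χ₂, rfl⟩ := hB
    rwa [blockOf_eq_of_mem hχ₁B] at h4
  have hAB : A = B := Set.Subset.antisymm (fun χ hχ => hχ.1) hsub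
  have hcone : ∀ χ ∈ B, c χ = 1 := fun χ hχ => (hq1 χ hχ (hsub hχ).2).2
  have he₀e : e₀ = e := by
    rw [hidemA, hAB]
  have hLL : ∀ l ∈ L, l ∈ L₀ := by
    intro l hl
    by_contra hn
    have h4 : l * e₀ = 0 := by
      rw [he₀, Finset.mul_sum]
      refine Finset.sum_eq_zero fun l' hl' => ?_
      refine h2 l hl l' (Finset.mem_filter.mp hl').1 ?_
      rintro rfl
      exact hn hl'
    rw [he₀e, hL.mul_right hl] at h4
    exact (h1 l hl).ne h4
  have hall : ∀ l, l ∈ L → ∃ a b : GA G, a ∈ RcS M G ∧ b ∈ RcS M G ∧ a * l₀ = a ∧ l₀ * b = b ∧ a * b = l ∧ b * a = l₀ := by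
    intro l hl
    obtain ⟨a, ha, b, hb, -, h5, h6, -, h7, h8⟩ := (Finset.mem_filter.mp (hLL l hl)).2
    exact ⟨a, b, ha, hb, h5, h6, h7, h8⟩
  choose! u w hu hw hu1 hw1 huw hwu using hall
  refine ⟨l₀, L, u, w, ?_⟩
  refine ⟨hprim₀.idem, ?_, hL.mul_right hl₀, fun j hj => hS.rc _ (hu j hj), fun j hj => hS.rc _ (hw j hj), hwu, hu1, hw1, ?_⟩
  · intro χ hχ
    rw [hc, hcone χ hχ]
    simp
  · rw [Finset.sum_congr rfl huw]
    exact h3

end Cfsg.Agent.Lib.BK.Equal
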