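import Mathlib
import Cfsg.Agent.Lib.BK.Equal

/-!
# The dimension of a corner

For an idempotent `i` with local coefficients: the corner projection `x ↦ i x i`; the trace over `ℂ` is the sum of the
squares of the character values at `i`, and the rank can only go up under reduction.
-/

set_option autoImplicit false
set_option linter.unusedSectionVars false
set_option linter.style.haveILetI false

namespace Cfsg.Agent.Lib.BK.Cmat

open Cfsg MonoidAlgebra Module
open Cfsg.Agent.Lib.Blocks.Local Cfsg.Agent.Lib.Blocks.Central Cfsg.Agent.Lib.Blocks.Brauer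
open Cfsg.Agent.Lib.BlockAlg Cfsg.Agent.Lib.Blk89.BlockPow
open Cfsg.Agent.Lib.BK.Coef Cfsg.Agent.Lib.BP.Cj
open Cfsg.Agent.Lib.Char.Basic

universe u v

section K

variable {K : Type u} [Field K] {G : Type v} [Group G] [Fintype G]

/-- The basis of group elements. -/
noncomputable def bas : Basis G K (MonoidAlgebra K G) := (Pi.basisFun K G).map coeffEquivK

theorem bas_apply (g : G) : (bas g : MonoidAlgebra K G) = single g 1 := by
  classical
  ext h
  simp only [bas, Basis.map_apply, Pi.basisFun_apply]
  change (Pi.single g (1 : K) : G → K) h = _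
  rw [coeff_singleK, Pi.single_apply]

theorem bas_repr (y : MonoidAlgebra K G) (g : G) : (bas (K := K) (G := G)).repr y g = y.coeff g := by
  simp only [bas, Basis.map_repr, LinearEquiv.trans_apply]
  rfl

/-- The corner projection. -/
noncomputable def corMap (j : MonoidAlgebra K G) : MonoidAlgebra K G →ₗ[K] MonoidAlgebra K G :=
  (LinearMap.mulLeft K j) ∘ₗ (LinearMap.mulRight K j)

theorem corMap_apply (j x : MonoidAlgebra K G) : corMap j x = j * (x * j) := rfl

theorem corMap_idem {j : MonoidAlgebra K G} (hj : j * j = j) : corMap j * corMap j = corMap j := by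
  refine LinearMap.ext fun x => ?_
  change j * (j * (x * j) * j) = j * (x * j)
  calc j * (j * (x * j) * j) = (j * j) * (x * (j * j)) := by noncomm_ring
    _ = _ := by rw [hj]

/-- The matrix of the corner projection. -/
noncomputable def corMat (j : MonoidAlgebra K G) : Matrix G G K :=
  Matrix.of fun g h => (j * ((single h 1 : MonoidAlgebra K G) * j)).coeff g

theorem toMatrix_corMap [DecidableEq G] (j : MonoidAlgebra K G) :
    LinearMap.toMatrix bas bas (corMap j) = corMat j := by
  ext g h
  rw [LinearMap.toMatrix_apply, bas_repr, corMap_apply, bas_apply]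
  rfl

theorem finrank_range_add {V : Type*} [AddCommGroup V] [Module K V] [FiniteDimensional K V] {f : Module.End K V}
    (hf : f * f = f) : finrank K (LinearMap.range f) + finrank K (LinearMap.range (1 - f)) = finrank K V := by
  have h1 : LinearMap.range (1 - f) = LinearMap.ker f := by
    ext x
    constructor
    · rintro ⟨y, rfl⟩
      change f ((1 - f) y) = 0
      have : f * (1 - f) = 0 := by rw [mul_sub, mul_one, hf, sub_self]
      exact LinearMap.congr_fun this y
    · intro hx
      refine ⟨x, ?_⟩
      change x - f x = x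
      rw [LinearMap.mem_ker.mp hx, sub_zero]
  rw [h1]
  exact LinearMap.finrank_range_add_finrank_ker f

theorem rank_corMat [DecidableEq G] (j : MonoidAlgebra K G) :
    (corMat j).rank = finrank K (LinearMap.range (corMap j)) := by
  rw [Matrix.rank_eq_finrank_range_toLin _ bas bas, ← toMatrix_corMap, Matrix.toLin_toMatrix]

theorem rank_one_sub_corMat [DecidableEq G] (j : MonoidAlgebra K G) :
    ((1 : Matrix G G K) - corMat j).rank = finrank K (LinearMap.range ((1 : Module.End K (MonoidAlgebra K G)) - corMap j)) := by
  rw [Matrix.rank_eq_finrank_range_toLin _ bas bas, ← toMatrix_corMap]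
  have e : (1 : Matrix G G K) - LinearMap.toMatrix bas bas (corMap j) =
      LinearMap.toMatrix bas bas ((1 : Module.End K (MonoidAlgebra K G)) - corMap j) := by
    rw [map_sub]
    congr 1
    exact (LinearMap.toMatrix_one bas).symm
  rw [e, Matrix.toLin_toMatrix]

theorem rank_add [DecidableEq G] {j : MonoidAlgebra K G} (hj : j * j = j) :
    (corMat j).rank + ((1 : Matrix G G K) - corMat j).rank = Fintype.card G := by
  haveI := finite_groupAlg (G := G) K
  rw [rank_corMat, rank_one_sub_corMat, finrank_range_add (corMap_idem hj), finrank_groupAlg]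

/-- The range of the corner projection. -/
theorem mem_range_corMap {j : MonoidAlgebra K G} (hj : j * j = j) {x : MonoidAlgebra K G} :
    x ∈ LinearMap.range (corMap j) ↔ j * x = x ∧ x * j = x := by
  constructor
  · rintro ⟨y, rfl⟩
    rw [corMap_apply]
    constructor
    · rw [← mul_assoc, hj]
    · rw [mul_assoc, mul_assoc, hj]
  · rintro ⟨h1, h2⟩
    exact ⟨x, by rw [corMap_apply, h2, h1]⟩

end K

variable {G : Type v} [Group G] [Fintype G] {M : Ideal AlgInt} [hMp : M.IsPrime]

theorem red_single (g : G) : red M (single g 1 : GA G) = single g 1 := by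
  classical
  ext h
  rw [coeff_red, Cfsg.Agent.Lib.BlockAlg.coeff_singleK, Cfsg.Agent.Lib.BlockAlg.coeff_singleK]
  split_ifs
  · exact r_one
  · exact r_zero

/-- **The rank of a corner can only go up under reduction.** -/
theorem finrank_corner_le {i : GA G} (hi : Rc M i) (hii : i * i = i) :
    finrank ℂ (LinearMap.range (corMap i)) ≤ finrank (Res M) (LinearMap.range (corMap (red M i))) := by
  classical
  have hj : red M i * red M i = red M i := by rw [← red_mul hi hi, hii]
  have hsing : ∀ h : G, Rc M (single h 1 : GA G) := fun h => Rc.single h memLocalRing_one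
  let T : Matrix G G (localSubring M) := Matrix.of fun g h =>
    ⟨(i * ((single h 1 : GA G) * i)).coeff g, Rc.mul hi (Rc.mul (hsing h) hi) g⟩
  have h1 : T.map (localSubring M).subtype = corMat i := by
    ext g h
    rfl
  have h2 : T.map (Ideal.Quotient.mk (localIdeal M)) = corMat (red M i) := by
    ext g h
    change Ideal.Quotient.mk (localIdeal M) (⟨(i * ((single h 1 : GA G) * i)).coeff g, _⟩ : localSubring M) =
      (red M i * ((single h 1 : MonoidAlgebra (Res M) G) * red M i)).coeff g
    rw [← r_of_mem]
    rw [← red_single, ← red_mul (hsing h) hi, ← red_mul hi (Rc.mul (hsing h) hi), coeff_red]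
  have h3 := rank_map_le (Ideal.Quotient.mk (localIdeal M)) (localSubring M).subtype Subtype.val_injective
    ((1 : Matrix G G (localSubring M)) - T)
  have e1 : ((1 : Matrix G G (localSubring M)) - T).map (Ideal.Quotient.mk (localIdeal M)) =
      (1 : Matrix G G (Res M)) - corMat (red M i) := by
    rw [← h2]
    change (Ideal.Quotient.mk (localIdeal M)).mapMatrix _ = 1 - (Ideal.Quotient.mk (localIdeal M)).mapMatrix T
    rw [map_sub, map_one]
  have e2 : ((1 : Matrix G G (localSubring M)) - T).map (localSubring M).subtype =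
      (1 : Matrix G G ℂ) - corMat i := by
    rw [← h1]
    change (localSubring M).subtype.mapMatrix _ = 1 - (localSubring M).subtype.mapMatrix T
    rw [map_sub, map_one]
  rw [e1, e2] at h3
  have h4 := rank_add (K := ℂ) hii
  have h5 := rank_add (K := Res M) hj
  rw [← rank_corMat, ← rank_corMat]
  omega

/-- **The trace of the corner projection.** -/
theorem trace_corMap [Fintype (IrrCharacter G)] (i : GA G) :
    LinearMap.trace ℂ (GA G) (corMap i) = ∑ χ : IrrCharacter G, (lin (χ : G → ℂ) i) ^ 2 := by
  classical
  have hcard : (Nat.card G : ℂ) ≠ 0 := Nat.cast_ne_zero.mpr Nat.card_pos.ne'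
  apply mul_left_cancel₀ hcard
  rw [LinearMap.trace_eq_matrix_trace ℂ bas, toMatrix_corMap, Matrix.trace]
  simp only [Matrix.diag_apply, corMat, Matrix.of_apply]
  rw [Finset.mul_sum, Finset.mul_sum]
  simp_rw [card_mul_coeff]
  rw [Finset.sum_comm]
  refine Finset.sum_congr rfl fun χ _ => ?_
  have hχ := isClassFunction_of_isIrrCharacter χ.2
  set C : GA G := ∑ g : G, cj g i with hC
  have hcen : IsCentral C := by
    intro g t
    rw [hC, coeff_sum', coeff_sum']
    refine Fintype.sum_equiv (Equiv.mulLeft t⁻¹) _ _ fun s => ?_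
    simp only [coeff_cj, Equiv.coe_mulLeft]
    congr 1
    group
  have h1 : ∀ g : G, lin (χ : G → ℂ) (i * ((single g 1 : GA G) * i) * single g⁻¹ 1) =
      lin (χ : G → ℂ) (i * cj g i) := by
    intro g
    rw [cj, mul_assoc, mul_assoc (single g 1 : GA G)]
  have h2 : lin (χ : G → ℂ) C = (Nat.card G : ℂ) * lin (χ : G → ℂ) i := by
    have e : ∀ g ∈ (Finset.univ : Finset G), lin (χ : G → ℂ) (cj g i) = lin (χ : G → ℂ) i := fun g _ => by
      rw [cj, lin_mul_comm hχ, ← mul_assoc, single_inv_mul_single, one_mul]
    rw [hC, map_sum, Finset.sum_congr rfl e, Finset.sum_const, Finset.card_univ,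
      Nat.card_eq_fintype_card, nsmul_eq_mul]
  have h3 : lin (χ : G → ℂ) (i * C) = ((Nat.card G : ℂ) * lin (χ : G → ℂ) i / (χ : G → ℂ) 1) * lin (χ : G → ℂ) i := by
    rw [lin_mul_comm hχ, lin_central_mul χ.2 hcen, omega, h2]
  have h4 : (χ : G → ℂ) 1 ≠ 0 := Cfsg.Agent.Lib.Char.Complete.irr_one_ne_zero χ.2
  simp_rw [h1]
  rw [← Finset.mul_sum, ← map_sum, ← Finset.mul_sum, h3]
  field_simp

end Cfsg.Agent.Lib.BK.Cmat
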