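import Mathlib
import Cfsg.Agent.Lib.BK.Equal
import Cfsg.Agent.Lib.BP.Nil4

/-!
# The theorem of Broué–Puig–Okuyama–Tsushima type: equal degrees and nilpotent blocks
-/

set_option autoImplicit false
set_option linter.unusedSectionVars false
set_option linter.style.haveILetI false

namespace Cfsg.Agent.Lib.BK.Main

open Cfsg
open Cfsg.Agent.Lib.Blocks.Central Cfsg.Agent.Lib.Blocks.Local

universe u

variable {G : Type u} [Group G] [Fintype G] {M : Ideal AlgInt} {p : ℕ} [Fact p.Prime] {B : Set (IrrCharacter G)}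
  {P : Subgroup G}

/-- **Equal degrees imply nilpotent, abelian defect and `k(B) = |P|`.** -/
theorem of_same_degree (hM : IsPModular p M) (hB : IsPBlock M B) (hP : IsDefectGroup p M B P) {D : ℕ}
    (hd : ∀ χ ∈ B, charDegree (χ : G → ℂ) = D) :
    (∀ x ∈ P, ∀ y ∈ P, x * y = y * x) ∧ Nat.card B = Nat.card P ∧ IsNilpotentBlock p M B := by
  classical
  haveI := isPrime_of_pModular hM
  haveI := Cfsg.Agent.Lib.Char.Ortho.finite_irrCharacter (G := G)
  letI : Fintype (IrrCharacter G) := Fintype.ofFinite _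
  obtain ⟨e, hmax⟩ := Cfsg.Agent.Lib.BP.Nil4.exists_pair_of_defect hM hB hP
  obtain ⟨i, s, u, w, h⟩ := Equal.exists_hcData hM hB hd
  obtain ⟨Z, hZ1, hZ2, hZ3⟩ := HC.exists_central h
  exact Core4.core hM hmax hd hZ1 hZ2 hZ3

/-- **A nilpotent block with abelian defect group has characters of equal degree.** -/
theorem same_degree_of_nilpotent (hM : IsPModular p M) (hP : IsDefectGroup p M B P)
    (hab : ∀ x y : P, x * y = y * x) (hnil : IsNilpotentBlock p M B) :
    ∃ d : ℕ, ∀ χ ∈ B, charDegree (χ : G → ℂ) = d := by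
  classical
  haveI := isPrime_of_pModular hM
  haveI := Cfsg.Agent.Lib.Char.Ortho.finite_irrCharacter (G := G)
  letI : Fintype (IrrCharacter G) := Fintype.ofFinite _
  have hB := hnil.1
  obtain ⟨e, hmax⟩ := Cfsg.Agent.Lib.BP.Nil4.exists_pair_of_defect hM hB hP
  obtain ⟨χ₀, hχ₀, h0, hs⟩ := Cfsg.Agent.Lib.BP.Nil4.exists_height_zero (p := p) (isPBlock_nonempty hB)
  refine ⟨charDegree (χ₀ : G → ℂ), fun τ hτ => ?_⟩
  have hint : Cfsg.Agent.Lib.BP.Rob1.StarInt p M B P e :=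
    fun _ hgen hst _ hχ => Cfsg.Agent.Lib.Star.star_isGenChar hM hmax hgen hst hχ
  obtain ⟨ν, hν⟩ := Cfsg.Agent.Lib.BP.Nil4.exists_star_eq' hM hnil hmax hint hχ₀ h0 hs hτ
  rw [← hν]
  exact Cfsg.Agent.Lib.BP.Rob1.charDegree_star hM hmax
    (Cfsg.Agent.Lib.BP.Nil2.isStableLam_of_nilpotent hM hmax hnil
      (Cfsg.Agent.Lib.Char.Basic.isClassFunction_of_isIrrCharacter ν.2))
    (Cfsg.Agent.Lib.Char.Linear.isIrr_deg_one_of_comm hab ν.2) hχ₀

end Cfsg.Agent.Lib.BK.Main
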