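import Mathlib
import Cfsg.Agent.Lib.BK.Equal
import Cfsg.Agent.Lib.Blocks.Rank1
import Cfsg.Agent.Lib.Blocks.ClosedRank

/-!
# Blocks of `p`-regular rank one

If `B` has `p`-regular rank one, all primitive idempotents below `idem B` are isomorphic, and they have nonzero value
at each member of `B`.
-/

set_option autoImplicit false
set_option linter.unusedSectionVars false
set_option linter.style.haveILetI false

namespace Cfsg.Agent.Lib.BK.RankOne

open Cfsg MonoidAlgebra Module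
open Cfsg.Agent.Lib.Blocks.Local Cfsg.Agent.Lib.Blocks.Central Cfsg.Agent.Lib.Blocks.Brauer
open Cfsg.Agent.Lib.Blocks.Rank1
open Cfsg.Agent.Lib.BlockAlg Cfsg.Agent.Lib.Blk89.BlockPow
open Cfsg.Agent.Lib.BP.Fit Cfsg.Agent.Lib.BP.Corner Cfsg.Agent.Lib.BP.KS
open Cfsg.Agent.Lib.BK.Trc Cfsg.Agent.Lib.BK.Dual Cfsg.Agent.Lib.BK.Coef Cfsg.Agent.Lib.BK.Equal
open Cfsg.Agent.Lib.Char.Basic Cfsg.Agent.Lib.Char.Degree Cfsg.Agent.Lib.Blocks.Weak

universe u

variable {G : Type u} [Group G] [Fintype G] {M : Ideal AlgInt} [hMp : M.IsPrime] {p : ℕ} [Fact p.Prime]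
  [Fintype (IrrCharacter G)] {B : Set (IrrCharacter G)}

local notation "eB" => ((idem B : Subalgebra.center ℂ (GA G)) : GA G)

theorem lin_sub_fun (f g : G → ℂ) (a : GA G) :
    lin (fun x => f x - g x) a = lin f a - lin g a := by
  simp only [lin_apply, mul_sub]
  rw [Finset.sum_sub_distrib]

theorem lin_eq_of_regular (hM : IsPModular p M) {f g : G → ℂ} (hf : IsClassFunction G f) (hg : IsClassFunction G g)
    (h : ∀ y : G, ¬ p ∣ orderOf y → f y = g y) {a : GA G} (ha : a * a = a) (hrc : Rc M a) : lin f a = lin g a := by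
  have hτ : IsClassFunction G (fun x => f x - g x) := by
    intro x t
    simp only
    rw [hf, hg]
  have h0 := Cfsg.Agent.Lib.Star.hattori hM ha hrc hτ (fun c hc => by rw [h c hc, sub_self])
  rw [lin_sub_fun, sub_eq_zero] at h0
  exact h0

/-- The scalars relating the members of a block of rank one. -/
theorem lin_eq_smul (hM : IsPModular p M) (hl : blockRank p B = 1) {θ χ : IrrCharacter G} (hθ : θ ∈ B) (hχ : χ ∈ B) :
    ∃ c : ℂ, c ≠ 0 ∧ ∀ a : GA G, a * a = a → Rc M a → lin (χ : G → ℂ) a = c * lin (θ : G → ℂ) a := by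
  obtain ⟨c, hc⟩ := exists_scalar_of_blockRank_eq_one hl hθ hχ
  have hc0 : c ≠ 0 := by
    rintro rfl
    have h1 := hc 1 (by simp [(Fact.out : p.Prime).ne_one])
    rw [zero_mul] at h1
    exact Cfsg.Agent.Lib.Char.Complete.irr_one_ne_zero χ.2 h1
  refine ⟨c, hc0, fun a ha hrc => ?_⟩
  have hcθ : IsClassFunction G (fun x => c * (θ : G → ℂ) x) := by
    intro x t
    simp only
    rw [isClassFunction_of_isIrrCharacter θ.2]
  rw [lin_eq_of_regular hM (isClassFunction_of_isIrrCharacter χ.2) hcθ hc ha hrc]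
  simp only [lin_apply, Finset.mul_sum]
  refine Finset.sum_congr rfl fun g _ => ?_
  ring

/-- All class functions are proportional on the idempotents below the block. -/
theorem exists_functional (hM : IsPModular p M) (hl : blockRank p B = 1) {θ : IrrCharacter G} (hθ : θ ∈ B)
    {τ : G → ℂ} (hτ : IsClassFunction G τ) :
    ∃ A : ℂ, ∀ a : GA G, a * a = a → Rc M a → eB * a = a → lin τ a = A * lin (θ : G → ℂ) a := by
  classical
  have hcl := Cfsg.Agent.Lib.BlockH.Regular.isClassFunction_pRegularPart p hτ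
  have hc : ∀ χ : IrrCharacter G, ∃ c : ℂ, χ ∈ B →
      ∀ a : GA G, a * a = a → Rc M a → lin (χ : G → ℂ) a = c * lin (θ : G → ℂ) a := by
    intro χ
    by_cases hχ : χ ∈ B
    · obtain ⟨c, -, h⟩ := lin_eq_smul hM hl hθ hχ
      exact ⟨c, fun _ => h⟩
    · exact ⟨0, fun h => absurd h hχ⟩
  choose c hc using hc
  refine ⟨∑ χ : IrrCharacter G, if χ ∈ B then classInner (pRegularPart p τ) (χ : G → ℂ) * c χ else 0,
    fun a ha hrc hea => ?_⟩
  have h1 : lin τ a = lin (pRegularPart p τ) a := by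
    refine lin_eq_of_regular hM hτ hcl (fun y hy => ?_) ha hrc
    rw [Cfsg.Agent.Lib.BlockH.Regular.pRegularPart_apply, if_pos (show IsPRegular p y from hy)]
  rw [h1]
  conv_lhs => rw [Cfsg.Agent.Lib.Char.Complete.classFunction_eq_sum hcl]
  have h2 : ∀ (s : Finset (IrrCharacter G)) (f : IrrCharacter G → ℂ),
      lin (∑ χ ∈ s, f χ • (χ : G → ℂ)) a = ∑ χ ∈ s, f χ * lin (χ : G → ℂ) a := by
    intro s f
    simp only [lin_apply, Finset.mul_sum, Finset.sum_apply, Pi.smul_apply, smul_eq_mul, Finset.sum_mul]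
    rw [Finset.sum_comm]
    refine Finset.sum_congr rfl fun χ _ => Finset.sum_congr rfl fun g _ => ?_
    ring
  rw [h2, Finset.sum_mul]
  refine Finset.sum_congr rfl fun χ _ => ?_
  by_cases hχ : χ ∈ B
  · rw [if_pos hχ, hc χ hχ a ha hrc, mul_assoc]
  · have h3 := lin_idem_mul B χ a
    rw [hea, if_neg hχ] at h3
    rw [if_neg hχ, h3, mul_zero, zero_mul]

/-- Nonzero values. -/
theorem lin_ne_zero (hM : IsPModular p M) (hl : blockRank p B = 1) {χ : IrrCharacter G} (hχ : χ ∈ B) {a : GA G}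
    (ha : a * a = a) (hrc : Rc M a) (hea : eB * a = a) (hne : a ≠ 0) : lin (χ : G → ℂ) a ≠ 0 := by
  classical
  obtain ⟨χ₁, hχ₁⟩ := exists_lin_ne ha hne
  have hχ₁B : χ₁ ∈ B := by
    by_contra hn
    have h3 := lin_idem_mul B χ₁ a
    rw [hea, if_neg hn] at h3
    exact hχ₁ h3
  obtain ⟨c, hc0, hc⟩ := lin_eq_smul hM hl hχ hχ₁B
  rw [hc a ha hrc] at hχ₁
  exact right_ne_zero_of_mul hχ₁

/-- **All primitive idempotents below a block of rank one are isomorphic.** -/
theorem iso_of_rank_one (hM : IsPModular p M) (hl : blockRank p B = 1) {i i' : GA G} (hi : IsPrim (RcS M G) i)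
    (hi' : IsPrim (RcS M G) i') (hei : eB * i = i) (hei' : eB * i' = i') : Iso (RcS M G) i i' := by
  classical
  obtain ⟨θ, hθ⟩ : ∃ θ : IrrCharacter G, θ ∈ B := by
    obtain ⟨χ₁, hχ₁⟩ := exists_lin_ne hi.idem hi.ne
    refine ⟨χ₁, ?_⟩
    by_contra hn
    have h3 := lin_idem_mul B χ₁ i
    rw [hei, if_neg hn] at h3
    exact hχ₁ h3
  obtain ⟨β, hβc, hβ⟩ := exists_beta hi'
  obtain ⟨A, hA⟩ := exists_functional hM hl hθ hβc
  have h1 := hA i hi.idem hi.mem hei
  have h2 := hA i' hi'.idem hi'.mem hei'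
  rw [hβ i' hi', if_pos (Iso.refl hi'.mem hi'.idem)] at h2
  have hA0 : A ≠ 0 := by
    rintro rfl
    rw [zero_mul] at h2
    exact one_ne_zero h2
  have h3 := lin_ne_zero hM hl hθ hi.idem hi.mem hei hi.ne
  rw [hβ i hi] at h1
  by_contra hn
  rw [if_neg hn] at h1
  exact mul_ne_zero hA0 h3 h1.symm

end Cfsg.Agent.Lib.BK.RankOne
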