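import Mathlib
import Cfsg.Agent.Lib.BK.Cmat
import Cfsg.Agent.Lib.BK.RankOne
import Cfsg.Agent.Lib.BK.Dim
import Cfsg.Agent.Lib.Star.LocalSym
import Cfsg.Agent.Lib.Star.Lift

/-!
# The corner of the residue group algebra at a primitive idempotent
-/

set_option autoImplicit false
set_option linter.unusedSectionVars false
set_option linter.style.haveILetI false

namespace Cfsg.Agent.Lib.BK.RedCor

open Cfsg MonoidAlgebra Module
open Cfsg.Agent.Lib.Blocks.Local Cfsg.Agent.Lib.Blocks.Central Cfsg.Agent.Lib.Blocks.Brauer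
open Cfsg.Agent.Lib.BlockAlg Cfsg.Agent.Lib.Blk89.BlockPow
open Cfsg.Agent.Lib.BK.Coef Cfsg.Agent.Lib.BK.Cmat Cfsg.Agent.Lib.BK.Dim
open Cfsg.Agent.Lib.Star Cfsg.Agent.Lib.Star.LocalSym

universe u

variable {G : Type u} [Group G] [Fintype G] {M : Ideal AlgInt} [hMp : M.IsPrime]

local notation "kG" => MonoidAlgebra (Res M) G

theorem exists_lift_red (z : kG) : ∃ x : GA G, Rc M x ∧ red M x = z := by
  classical
  choose s hs hrs using fun c : Res M => exists_lift_res (M := M) c
  refine ⟨Cfsg.Agent.Lib.Blocks.Central.ofFun fun g => s (z.coeff g), fun g => hs _, ?_⟩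
  ext g
  exact hrs _

/-- The reduction of a primitive idempotent is primitive. -/
theorem isPrimIn_red {i : GA G} (hi : Cfsg.Agent.Lib.BP.Corner.IsPrim (Cfsg.Agent.Lib.BP.Fit.RcS M G) i) :
    IsPrimIn (⊤ : Subalgebra (Res M) kG) (red M i) := by
  have hrc : Rc M i := hi.mem
  refine ⟨Algebra.mem_top, by rw [← red_mul hrc hrc, hi.idem], ?_, ?_⟩
  · intro h0
    exact hi.ne (eq_zero_of_idem_of_red hrc hi.idem h0)
  · intro e _ hee h1 h2
    obtain ⟨z, hz, rfl⟩ := exists_lift_red e
    obtain ⟨E', hE', hEE', hr, h3, h4⟩ := exists_idem_in_corner (S := RcS M G) (fun _ h => h) (E := i) (z := z)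
      hrc hi.idem hz hee h1 h2
    rcases hi.prim E' hE' hEE' h3 h4 with h | h
    · left
      rw [← hr, h]
      exact red_zero'
    · right
      rw [← hr, h]

variable {i : GA G} {L : Finset (GA G)} {u w : GA G → GA G}

open Classical in
/-- The center of the corner embeds in the reduction of the center of the block. -/
theorem finrank_ZCor_le {B : Set (IrrCharacter G)} [Fintype (IrrCharacter G)] (hB : idem B ∈ localCenter M G)
    (hi : Rc M i) (hii : i * i = i) (hne : L.Nonempty) (hu : ∀ l ∈ L, Rc M (u l)) (hw : ∀ l ∈ L, Rc M (w l))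
    (hui : ∀ l ∈ L, u l * i = u l) (hiw : ∀ l ∈ L, i * w l = w l)
    (hwu : ∀ l ∈ L, ∀ l' ∈ L, w l * u l' = if l = l' then i else 0)
    (hsum : ∑ l ∈ L, u l * w l = ((idem B : Subalgebra.center ℂ (GA G)) : GA G)) :
    finrank (Res M) (ZCor (Res M) (red M i)) ≤ finrank (Res M) (VE M (idem B)) := by
  classical
  haveI := finite_groupAlg (G := G) (Res M)
  set e : GA G := ((idem B : Subalgebra.center ℂ (GA G)) : GA G) with he
  have heR : Rc M e := Rc.of_localCenter hB
  set j : kG := red M i with hj
  set E : kG := red M e with hE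
  set U : GA G → kG := fun l => red M (u l) with hU
  set W : GA G → kG := fun l => red M (w l) with hW
  have hjj : j * j = j := by rw [hj, ← red_mul hi hi, hii]
  have hUj : ∀ l ∈ L, U l * j = U l := fun l hl => by
    rw [hU, hj]
    simp only
    rw [← red_mul (hu l hl) hi, hui l hl]
  have hjW : ∀ l ∈ L, j * W l = W l := fun l hl => by
    rw [hW, hj]
    simp only
    rw [← red_mul hi (hw l hl), hiw l hl]
  have hWU : ∀ l ∈ L, ∀ l' ∈ L, W l * U l' = if l = l' then j else 0 := fun l hl l' hl' => by
    rw [hW, hU]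
    simp only
    rw [← red_mul (hw l hl) (hu l' hl'), hwu l hl l' hl']
    split_ifs
    · rfl
    · exact red_zero'
  have hsumr : ∑ l ∈ L, U l * W l = E := by
    rw [hE, ← hsum, red_sum _ _ fun l hl => Rc.mul (hu l hl) (hw l hl)]
    refine Finset.sum_congr rfl fun l hl => ?_
    rw [hU, hW]
    simp only
    rw [red_mul (hu l hl) (hw l hl)]
  have hEc : ∀ x : kG, x * E = E * x := fun x => central_red (isCentral_of_mem _) x
  have hEU : ∀ l ∈ L, E * U l = U l := by
    intro l hl
    rw [← hsumr, Finset.sum_mul, Finset.sum_eq_single l]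
    · rw [mul_assoc, hWU l hl l hl, if_pos rfl, hUj l hl]
    · intro s hs hsl
      rw [mul_assoc, hWU s hs l hl, if_neg hsl, mul_zero]
    · intro h
      exact absurd hl h
  have hWE : ∀ l ∈ L, W l * E = W l := by
    intro l hl
    rw [← hsumr, Finset.mul_sum, Finset.sum_eq_single l]
    · rw [← mul_assoc, hWU l hl l hl, if_pos rfl, hjW l hl]
    · intro s hs hsl
      rw [← mul_assoc, hWU l hl s hs, if_neg (Ne.symm hsl), zero_mul]
    · intro h
      exact absurd hl h
  -- the map
  let T : ZCor (Res M) j →ₗ[Res M] kG := ∑ l ∈ L, (LinearMap.mulLeft (Res M) (U l)) ∘ₗ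
    (LinearMap.mulRight (Res M) (W l)) ∘ₗ (ZCor (Res M) j).subtype
  have hT : ∀ z : ZCor (Res M) j, T z = ∑ l ∈ L, U l * ((z : kG) * W l) := by
    intro z
    simp only [T, LinearMap.sum_apply]
    rfl
  have hEy : ∀ z : ZCor (Res M) j, E * T z = T z := by
    intro z
    rw [hT, Finset.mul_sum]
    refine Finset.sum_congr rfl fun l hl => ?_
    rw [← mul_assoc, hEU l hl]
  have hyE : ∀ z : ZCor (Res M) j, T z * E = T z := by
    intro z
    rw [hT, Finset.sum_mul]
    refine Finset.sum_congr rfl fun l hl => ?_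
    rw [mul_assoc, mul_assoc, hWE l hl]
  have hcen : ∀ (z : ZCor (Res M) j) (x : kG), x * T z = T z * x := by
    intro z x
    have e1 : x * T z = ∑ s ∈ L, ∑ l ∈ L, U s * ((W s * x * U l) * (z : kG)) * W l := by
      calc x * T z = x * (E * T z) := by rw [hEy]
        _ = (x * E) * T z := by rw [mul_assoc]
        _ = (E * x) * T z := by rw [hEc]
        _ = _ := by
          rw [← hsumr, Finset.sum_mul, Finset.sum_mul]
          refine Finset.sum_congr rfl fun s _ => ?_
          rw [hT, Finset.mul_sum]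
          refine Finset.sum_congr rfl fun l _ => ?_
          noncomm_ring
    have e2 : T z * x = ∑ s ∈ L, ∑ l ∈ L, U s * ((z : kG) * (W s * x * U l)) * W l := by
      calc T z * x = (T z * E) * x := by rw [hyE]
        _ = T z * (E * x) := by rw [mul_assoc]
        _ = T z * (x * E) := by rw [hEc]
        _ = _ := by
          rw [← hsumr, hT, Finset.sum_mul]
          refine Finset.sum_congr rfl fun s _ => ?_
          rw [Finset.mul_sum, Finset.mul_sum]
          refine Finset.sum_congr rfl fun l _ => ?_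
          noncomm_ring
    rw [e1, e2]
    refine Finset.sum_congr rfl fun s hs => Finset.sum_congr rfl fun l hl => ?_
    have hc : W s * x * U l ∈ Cor (Res M) j := by
      constructor
      · rw [← mul_assoc, ← mul_assoc, hjW s hs]
      · rw [mul_assoc, hUj l hl]
    rw [z.2.2 _ hc]
  have hmem : ∀ z : ZCor (Res M) j, T z ∈ VE M (idem B) := by
    intro z
    obtain ⟨z', hz', hr⟩ := exists_lift_central (hcen z)
    refine Submodule.subset_span ⟨z', hz', ?_⟩
    have e3 : ((z' * idem B : Subalgebra.center ℂ (GA G)) : GA G) = (z' : GA G) * e := rfl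
    rw [e3, red_mul (Rc.of_localCenter hz') heR, hr]
    exact (hyE z).symm
  let T' : ZCor (Res M) j →ₗ[Res M] VE M (idem B) := T.codRestrict _ hmem
  have hinj : Function.Injective T' := by
    rw [← LinearMap.ker_eq_bot, LinearMap.ker_eq_bot']
    intro z hz
    have h0 : T z = 0 := congrArg Subtype.val hz
    obtain ⟨s, hs⟩ := hne
    have h1 : W s * T z * U s = (z : kG) := by
      rw [hT, Finset.mul_sum, Finset.sum_mul, Finset.sum_eq_single s]
      · calc W s * (U s * ((z : kG) * W s)) * U s = (W s * U s) * (z : kG) * (W s * U s) := by noncomm_ring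
          _ = (z : kG) := by
            rw [hWU s hs s hs, if_pos rfl, z.2.1.1, z.2.1.2]
      · intro l hl hls
        calc W s * (U l * ((z : kG) * W l)) * U s = (W s * U l) * (z : kG) * (W l * U s) := by noncomm_ring
          _ = 0 := by rw [hWU s hs l hl, if_neg (Ne.symm hls), zero_mul, zero_mul]
      · intro h
        exact absurd hs h
    rw [h0, mul_zero, zero_mul] at h1
    exact Subtype.ext h1.symm
  exact LinearMap.finrank_le_finrank_of_injective hinj

/-- **Commutativity of the corner of the residue algebra.** -/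
theorem corner_comm_red {i : GA G} (hi : Cfsg.Agent.Lib.BP.Corner.IsPrim (Cfsg.Agent.Lib.BP.Fit.RcS M G) i)
    (hZ : finrank (Res M) (ZCor (Res M) (red M i)) ≤ 4) :
    ∀ c ∈ Cor (Res M) (red M i), ∀ d ∈ Cor (Res M) (red M i), c * d = d * c := by
  haveI := finite_groupAlg (G := G) (Res M)
  have hj := isPrimIn_red hi
  refine Cfsg.Agent.Lib.Star.LocalSym.corner_comm hj lamK lamK_tracelike ?_ hZ
  intro y hy h
  refine lamK_nondeg y fun x => ?_
  have h1 : lamK (y * x) = lamK (y * (red M i * (x * red M i))) := by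
    have e1 : y * (red M i * (x * red M i)) = (y * red M i) * x * red M i := by noncomm_ring
    rw [e1, hy.2, lamK_tracelike (y * x), ← mul_assoc, hy.1]
  rw [h1]
  refine h _ ⟨?_, ?_⟩
  · rw [← mul_assoc, hj.idem]
  · rw [mul_assoc, mul_assoc, hj.idem]

end Cfsg.Agent.Lib.BK.RedCor
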